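import Mathlib.GroupTheory.PGroup
import Mathlib.GroupTheory.QuotientGroup.Basic
import Mathlib.Algebra.Group.Subgroup.Map
import Mathlib.GroupTheory.GroupAction.Basic

/-!
# An automorphism of order five on an elementary abelian group of order at most 16

It has no fixed points and no proper invariant subgroup.  An involutory automorphism inverting it
fixes exactly four elements, all of them commutators.
-/

set_option autoImplicit false
set_option linter.unusedSectionVars false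

open Subgroup

namespace CfsgLib.PGroup.RadicalFive

universe u

variable {V : Type u} [CommGroup V] [Finite V]

theorem exists_card_eq (h2 : ∀ v : V, v * v = 1) (hV : Nat.card V ≤ 16) (W : Subgroup V) :
    ∃ k, k ≤ 4 ∧ Nat.card W = 2 ^ k := by
  haveI : Fact (Nat.Prime 2) := ⟨Nat.prime_two⟩
  have hp : IsPGroup 2 W := fun w => ⟨1, Subtype.ext (by
    rw [SubgroupClass.coe_pow, pow_one, sq]; exact h2 _)⟩
  obtain ⟨k, hk⟩ := IsPGroup.iff_card.1 hp
  refine ⟨k, ?_, hk⟩
  have := (hk.symm.trans_le (card_le_card_group W)).trans hV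
  exact (Nat.pow_le_pow_iff_right (Nat.one_lt_two)).1 (this.trans_eq (show (16 : ℕ) = 2 ^ 4 by norm_num))

/-- The fixed subgroup. -/
def fixSub (σ : MulAut V) : Subgroup V where
  carrier := {v | σ v = v}
  one_mem' := map_one σ
  mul_mem' := fun {a b} ha hb => by
    show σ (a * b) = a * b
    rw [map_mul, show σ a = a from ha, show σ b = b from hb]
  inv_mem' := fun {a} ha => by
    show σ a⁻¹ = a⁻¹
    rw [map_inv, show σ a = a from ha]

theorem mem_fixSub {σ : MulAut V} {v : V} : v ∈ fixSub σ ↔ σ v = v := Iff.rfl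

theorem five_facts (h2 : ∀ v : V, v * v = 1) (hV : Nat.card V ≤ 16) {σ : MulAut V} (h5 : σ ^ 5 = 1)
    (hne : σ ≠ 1) :
    Nat.card V = 16 ∧ fixSub σ = ⊥ ∧
      ∀ W : Subgroup V, (∀ v ∈ W, σ v ∈ W) → W ≠ ⊥ → W = ⊤ := by
  classical
  haveI : Fact (Nat.Prime 5) := ⟨Nat.prime_five⟩
  have hord : orderOf σ = 5 := orderOf_eq_prime h5 hne
  have key : ∀ W : Subgroup V, (∀ v ∈ W, σ v ∈ W) →
      Nat.card W ≡ Nat.card (W ⊓ fixSub σ : Subgroup V) [MOD 5] := by
    intro W hW
    have hpow : ∀ (n : ℕ), ∀ v ∈ W, (σ ^ n) v ∈ W := by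
      intro n
      induction n with
      | zero => exact fun v hv => by simpa using hv
      | succ n ih => exact fun v hv => by rw [pow_succ', MulAut.mul_apply]; exact hW _ (ih v hv)
    have hz : ∀ g ∈ zpowers σ, ∀ v ∈ W, g v ∈ W := by
      intro g hg v hv
      obtain ⟨n, rfl⟩ := (Submonoid.mem_powers_iff _ _).1
        (mem_powers_iff_mem_zpowers.2 hg)
      exact hpow n v hv
    letI : MulAction (zpowers σ) W :=
      { smul := fun g v => ⟨(g : MulAut V) (v : V), hz g g.2 v v.2⟩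
        one_smul := fun v => Subtype.ext (by show (1 : MulAut V) (v : V) = v; rfl)
        mul_smul := fun g k v => Subtype.ext (by
          show ((g : MulAut V) * (k : MulAut V)) (v : V) = (g : MulAut V) ((k : MulAut V) v); rfl) }
    have hp : IsPGroup 5 (zpowers σ) := IsPGroup.of_card (n := 1) (by rw [Nat.card_zpowers, hord, pow_one])
    have h := hp.card_modEq_card_fixedPoints W
    refine h.trans (congrArg (· % 5) ?_)
    refine Nat.card_congr
      { toFun := fun v => ⟨(v.1 : V), v.1.2, congrArg Subtype.val (v.2 ⟨σ, mem_zpowers σ⟩)⟩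
        invFun := fun v => ⟨⟨v.1, v.2.1⟩, fun g => Subtype.ext ?_⟩
        left_inv := fun v => rfl
        right_inv := fun v => rfl }
    show (g : MulAut V) (v : V) = v
    obtain ⟨n, hn⟩ := (Submonoid.mem_powers_iff _ _).1 (mem_powers_iff_mem_zpowers.2 g.2)
    rw [← hn]
    clear hn
    induction n with
    | zero => rfl
    | succ n ih => rw [pow_succ', MulAut.mul_apply, ih]; exact v.2.2
  obtain ⟨k, hk4, hk⟩ := exists_card_eq h2 hV ⊤
  obtain ⟨j, hj4, hj⟩ := exists_card_eq h2 hV (fixSub σ)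
  have hmod := key ⊤ fun v _ => mem_top _
  rw [top_inf_eq, hj, hk, Nat.ModEq] at hmod
  rw [card_top] at hk
  have hlt : j < k := by
    refine lt_of_le_of_ne ((Nat.pow_le_pow_iff_right (Nat.one_lt_two)).1
      (hj ▸ hk ▸ card_le_card_group (fixSub σ))) fun e => hne ?_
    have htop : fixSub σ = ⊤ := eq_top_of_card_eq _ (by rw [hj, hk, e])
    exact MulEquiv.ext fun v => by
      have hv : v ∈ fixSub σ := htop ▸ mem_top v
      exact hv
  obtain ⟨rfl, rfl⟩ : j = 0 ∧ k = 4 := by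
    interval_cases k <;> interval_cases j <;> simp_all
  rw [pow_zero] at hj
  have hbot : fixSub σ = ⊥ := card_eq_one.1 hj
  refine ⟨by rw [hk]; rfl, hbot, fun W hW hWne => ?_⟩
  have h := key W hW
  rw [hbot, inf_bot_eq, card_bot] at h
  obtain ⟨i, hi4, hi⟩ := exists_card_eq h2 hV W
  rw [hi, Nat.ModEq] at h
  refine eq_top_of_card_eq _ ?_
  interval_cases i <;> simp_all

theorem invol_facts (h2 : ∀ v : V, v * v = 1) (hV : Nat.card V ≤ 16) {σ τ : MulAut V} (h5 : σ ^ 5 = 1)
    (hne : σ ≠ 1) (hτ : τ * τ = 1) (hinv : τ * σ * τ⁻¹ * σ = 1) :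
    Nat.card (fixSub τ) = 4 ∧ ∀ v ∈ fixSub τ, ∃ u, u⁻¹ * τ u = v := by
  obtain ⟨h16, hbot, -⟩ := five_facts h2 hV h5 hne
  have hconj : τ * σ = σ ^ 2 * τ * (σ ^ 2)⁻¹ := by
    have e1 : τ * σ * τ⁻¹ = σ⁻¹ := eq_inv_of_mul_eq_one_left hinv
    have e4 : σ⁻¹ = σ ^ 4 := inv_eq_of_mul_eq_one_right (by rw [← pow_succ', h5])
    have e2 : τ * (σ ^ 2)⁻¹ * τ⁻¹ = σ ^ 2 := by
      calc τ * (σ ^ 2)⁻¹ * τ⁻¹ = ((τ * σ * τ⁻¹) ^ 2)⁻¹ := by rw [conj_pow]; group
        _ = σ ^ 2 := by rw [e1, inv_pow, inv_inv]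
    calc τ * σ = (τ * σ * τ⁻¹) * τ := by group
      _ = (σ ^ 2 * σ ^ 2) * τ := by rw [e1, e4, ← pow_add]
      _ = σ ^ 2 * (τ * (σ ^ 2)⁻¹ * τ⁻¹) * τ := by rw [e2]
      _ = σ ^ 2 * τ * (σ ^ 2)⁻¹ := by group
  have hC' : fixSub (τ * σ) = (fixSub τ).map (σ ^ 2 : MulAut V).toMonoidHom := by
    rw [hconj]
    ext v
    rw [mem_fixSub, Subgroup.mem_map]
    constructor
    · intro h
      refine ⟨(σ ^ 2)⁻¹ v, ?_, (σ ^ 2).apply_symm_apply v⟩
      show τ _ = _
      exact (σ ^ 2).injective (h.trans ((σ ^ 2).apply_symm_apply v).symm)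
    · rintro ⟨w, hw, rfl⟩
      show ((σ ^ 2) * τ * (σ ^ 2)⁻¹ : MulAut V) ((σ ^ 2 : MulAut V) w) = (σ ^ 2 : MulAut V) w
      rw [MulAut.mul_apply, show ((σ ^ 2)⁻¹ : MulAut V) ((σ ^ 2 : MulAut V) w) = w from (σ ^ 2).symm_apply_apply w,
        MulAut.mul_apply, mem_fixSub.1 hw]
  have hle : Nat.card (fixSub τ) * Nat.card (fixSub τ) ≤ 16 := by
    have hinj : Function.Injective (fun p : fixSub τ × fixSub (τ * σ) => (p.1 : V) * p.2) := by
      rintro ⟨a, b⟩ ⟨c, d⟩ h
      simp only at h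
      have hmem : (a : V) / c ∈ fixSub τ ⊓ fixSub (τ * σ) := by
        refine mem_inf.2 ⟨div_mem a.2 c.2, ?_⟩
        rw [show (a : V) / c = (d : V) / b by rw [div_eq_div_iff_mul_eq_mul, h, mul_comm]]
        exact div_mem d.2 b.2
      have h1 : (a : V) / c ∈ fixSub σ := by
        have ha := mem_fixSub.1 hmem.1
        have hb := mem_fixSub.1 hmem.2
        rw [MulAut.mul_apply] at hb
        exact τ.injective (hb.trans ha.symm)
      rw [hbot, mem_bot, div_eq_one] at h1
      rw [h1] at h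
      exact Prod.ext (Subtype.ext h1) (Subtype.ext (mul_left_cancel h))
    have := Nat.card_le_card_of_injective _ hinj
    rw [Nat.card_prod, h16] at this
    rwa [hC', card_map_of_injective (σ ^ 2 : MulAut V).injective] at this
  let δ : V →* V := MonoidHom.mk' (fun u => u⁻¹ * τ u) fun a b => by
    rw [mul_inv, map_mul, mul_mul_mul_comm]
  have hker : δ.ker = fixSub τ := by
    ext u
    rw [MonoidHom.mem_ker, mem_fixSub]
    show u⁻¹ * τ u = 1 ↔ _
    rw [inv_mul_eq_one]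
    exact eq_comm
  have hrange : δ.range ≤ fixSub τ := by
    rintro _ ⟨u, rfl⟩
    show τ (u⁻¹ * τ u) = u⁻¹ * τ u
    rw [map_mul, map_inv, show τ (τ u) = u by rw [← MulAut.mul_apply, hτ]; rfl]
    refine mul_right_cancel (b := u⁻¹ * τ u) ?_
    rw [h2 (u⁻¹ * τ u), mul_comm u⁻¹ (τ u), mul_assoc, ← mul_assoc u, mul_comm u, mul_inv_cancel_right,
      inv_mul_cancel]
  have hprod : Nat.card (fixSub τ) * Nat.card δ.range = 16 := by
    rw [← h16, ← hker, ← index_ker, card_mul_index]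
  obtain ⟨a, ha, hca⟩ := exists_card_eq h2 hV (fixSub τ)
  have hr := card_le_of_le hrange
  have hfour : Nat.card (fixSub τ) = 4 := by
    rw [hca] at hle hprod hr ⊢
    interval_cases a <;> norm_num at * <;> omega
  refine ⟨hfour, fun v hv => ?_⟩
  have heq : δ.range = fixSub τ := eq_of_le_of_card_ge hrange (by rw [hfour] at hprod ⊢; omega)
  rw [← heq] at hv
  exact hv

end CfsgLib.PGroup.RadicalFive
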