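import Cfsg.Agent.Lib.PGroup.RadicalFive.Forms
import Cfsg.Agent.Lib.PGroup.QuaternionKernel
import Cfsg.Agent.Lib.Invol.Basic

/-!
# Five involutions with pairwise products of order four generate `Q₈ ∘ D₈`

If five involutions of a group have all products of two squaring to the same central involution `z`,
have product in `⟨z⟩` and, with `z`, cover the group in products of at most two, the group is a
central product of a quaternion group and a dihedral group of order 8.
-/

set_option autoImplicit false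
set_option linter.unusedSectionVars false
set_option linter.style.haveILetI false

open Subgroup

namespace CfsgLib.PGroup.RadicalFive

universe u

variable {P : Type u} [Group P]

theorem quat_equiv {x y : P} (hx2 : x * x ≠ 1) (hx4 : x ^ 4 = 1) (hy : y * y = x * x)
    (hxy : x * y = y * (x * x * x)) (hne : y ∉ zpowers x) :
    Nonempty (↥(closure ({x, y} : Set P)) ≃* QuaternionGroup 2) := by
  obtain ⟨φ, hφa, hφx, -⟩ := CfsgLib.PGroup.QuaternionKernel.exists_quatHom x y hx4 hy hxy
  have hnf : ∀ g : QuaternionGroup 2, ∃ k : Fin 4, g = QuaternionGroup.a 1 ^ (k : ℕ) ∨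
      g = QuaternionGroup.xa 0 * QuaternionGroup.a 1 ^ (k : ℕ) := by decide +kernel
  have hpow : ∀ k : Fin 4, x ^ (k : ℕ) = 1 → k = 0 := by
    intro k hk
    fin_cases k
    · rfl
    · simp only [pow_one] at hk
      exact absurd (by rw [hk, one_mul]) hx2
    · simp only at hk
      exact absurd (by rw [← sq]; exact hk) hx2
    · simp only at hk
      have hx1 : x = 1 := by
        calc x = x ^ 4 * (x ^ 3)⁻¹ := by group
          _ = 1 := by rw [hx4, hk, inv_one, one_mul]
      exact absurd (by rw [hx1, one_mul]) hx2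
  have hinj : Function.Injective φ := by
    rw [injective_iff_map_eq_one]
    intro g hg
    obtain ⟨k, rfl | rfl⟩ := hnf g
    · rw [map_pow, hφa] at hg
      rw [hpow k hg]; exact pow_zero _
    · rw [map_mul, map_pow, hφa, hφx] at hg
      exact absurd (eq_inv_of_mul_eq_one_left hg ▸ inv_mem (pow_mem (mem_zpowers x) _)) hne
  have hr : φ.range = closure ({x, y} : Set P) := by
    refine le_antisymm ?_ ((closure_le _).2 ?_)
    · rintro _ ⟨g, rfl⟩
      obtain ⟨k, rfl | rfl⟩ := hnf g
      · rw [map_pow, hφa]; exact pow_mem (Subgroup.subset_closure (k := ({x, y} : Set P)) (Or.inl rfl)) _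
      · rw [map_mul, map_pow, hφa, hφx]
        exact mul_mem (Subgroup.subset_closure (k := ({x, y} : Set P)) (Or.inr rfl)) (pow_mem (Subgroup.subset_closure (k := ({x, y} : Set P)) (Or.inl rfl)) _)
    · rintro _ (rfl | rfl)
      · exact ⟨_, hφa⟩
      · exact ⟨_, hφx⟩
  exact ⟨((MonoidHom.ofInjective hinj).trans (MulEquiv.subgroupCongr hr)).symm⟩

variable [Finite P]

theorem central_product {z : P} (a : Fin 5 → P) (hzc : ∀ p : P, z * p = p * z) (hz2 : z * z = 1)
    (hz1 : z ≠ 1) (ha : ∀ i, a i * a i = 1) (hpair : ∀ i j, i ≠ j → a i * a j * (a i * a j) = z)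
    (hprod : a 0 * a 1 * a 2 * a 3 * a 4 ∈ zpowers z)
    (hspan : ∀ p, p ∈ zpowers z ∨ (∃ i, p⁻¹ * a i ∈ zpowers z) ∨
      ∃ i j, i ≠ j ∧ p⁻¹ * (a i * a j) ∈ zpowers z) :
    ∃ A B : Subgroup P, Nonempty (↥A ≃* QuaternionGroup 2) ∧ Nonempty (↥B ≃* DihedralGroup 4) ∧
      (∀ x ∈ A, ∀ y ∈ B, x * y = y * x) ∧ A ⊔ B = ⊤ ∧ A ⊓ B = center P := by
  have hsw : ∀ i j, i ≠ j → a i * a j = z * (a j * a i) := fun i j hij => by
    rw [← hpair i j hij, mul_assoc, show a i * a j * (a j * a i) = a i * (a j * a j) * a i by group,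
      ha, mul_one, ha, mul_one]
  have hzc' : ∀ p q : P, p * (z * q) = z * (p * q) := fun p q => by rw [← mul_assoc, ← hzc, mul_assoc]
  have hzz : ∀ p : P, z * (z * p) = p := fun p => by rw [← mul_assoc, hz2, one_mul]
  -- a product of two commutes with a third
  have htriple : ∀ i j k, i ≠ k → j ≠ k → a i * a j * a k = a k * (a i * a j) := fun i j k hik hjk => by
    calc a i * a j * a k = a i * (z * (a k * a j)) := by rw [mul_assoc, hsw j k hjk]
      _ = z * (a i * a k * a j) := by rw [hzc', mul_assoc (a i)]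
      _ = z * (z * (a k * a i * a j)) := by rw [hsw i k hik, mul_assoc z]
      _ = a k * (a i * a j) := by rw [hzz, mul_assoc]
  set x := a 0 * a 1 with hx
  set y := a 1 * a 2 with hy
  have hxx : x * x = z := hpair 0 1 (by decide)
  have hyy : y * y = z := hpair 1 2 (by decide)
  have hx4 : x ^ 4 = 1 := by
    rw [show x ^ 4 = (x * x) * (x * x) by simp [pow_succ, mul_assoc], hxx, hz2]
  have hxy2 : x * y = a 0 * a 2 := by
    rw [hx, hy, show a 0 * a 1 * (a 1 * a 2) = a 0 * (a 1 * a 1) * a 2 by group, ha, mul_one]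
  have hxy : x * y = y * (x * x * x) := by
    have h1 : x * y * (x * y) = z := by rw [hxy2]; exact hpair 0 2 (by decide)
    have hi : ∀ w : P, w * w = z → w⁻¹ = z * w := fun w hw =>
      inv_eq_of_mul_eq_one_right (by rw [hzc', hw, hz2])
    calc x * y = z * (x * y)⁻¹ := by rw [hi _ h1, hzz]
      _ = z * (z * y * (z * x)) := by rw [mul_inv_rev, hi _ hxx, hi _ hyy]
      _ = y * (z * x) := by rw [mul_assoc z y, hzz]
      _ = y * (x * x * x) := by rw [hxx]
  have hne : y ∉ zpowers x := by
    intro h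
    obtain ⟨n, hn⟩ := mem_zpowers_iff.1 h
    have hc : x * y = y * x := by rw [← hn]; exact (Commute.self_zpow x n).eq
    rw [hxy, hxx] at hc
    exact hz1 (mul_eq_right.1 (mul_left_cancel hc))
  have ho : ∀ i, orderOf (a i) = 2 := fun i => orderOf_eq_prime (p := 2)
    (hp := ⟨Nat.prime_two⟩) (by rw [sq]; exact ha i) fun e => by
      obtain ⟨j, hj⟩ := exists_ne i
      have := hpair i j hj.symm
      rw [e, one_mul, ha] at this
      exact hz1 this.symm
  have hord : orderOf (a 3 * a 4) = 4 := by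
    refine orderOf_eq_prime_pow (p := 2) (n := 1) (hp := ⟨Nat.prime_two⟩) ?_ ?_
    · rw [pow_one, sq, hpair 3 4 (by decide)]; exact hz1
    · rw [show (a 3 * a 4) ^ 2 ^ (1 + 1) = (a 3 * a 4 * (a 3 * a 4)) * (a 3 * a 4 * (a 3 * a 4)) by
        simp [pow_succ, mul_assoc], hpair 3 4 (by decide), hz2]
  set A := closure ({x, y} : Set P) with hA
  set B := closure ({a 3, a 4} : Set P) with hB
  have hzA : z ∈ A := hxx ▸ mul_mem (Subgroup.subset_closure (Or.inl rfl)) (Subgroup.subset_closure (Or.inl rfl))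
  have hzB : z ∈ B := hpair 3 4 (by decide) ▸ mul_mem
    (mul_mem (Subgroup.subset_closure (Or.inl rfl)) (Subgroup.subset_closure (Or.inr rfl)))
    (mul_mem (Subgroup.subset_closure (Or.inl rfl)) (Subgroup.subset_closure (Or.inr rfl)))
  have hcomm : A ≤ centralizer (B : Set P) := by
    rw [hB, centralizer_closure, hA, closure_le]
    intro g hg
    rw [SetLike.mem_coe, mem_centralizer_iff]
    intro h hh
    rcases hg with rfl | rfl <;> rcases hh with rfl | rfl
    · exact (htriple 0 1 3 (by decide) (by decide)).symm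
    · exact (htriple 0 1 4 (by decide) (by decide)).symm
    · exact (htriple 1 2 3 (by decide) (by decide)).symm
    · exact (htriple 1 2 4 (by decide) (by decide)).symm
  have htop : A ⊔ B = ⊤ := by
    have h3 : a 3 ∈ A ⊔ B := mem_sup_right (Subgroup.subset_closure (Or.inl rfl))
    have h4 : a 4 ∈ A ⊔ B := mem_sup_right (Subgroup.subset_closure (Or.inr rfl))
    have hxm : x ∈ A ⊔ B := mem_sup_left (Subgroup.subset_closure (Or.inl rfl))
    have hym : y ∈ A ⊔ B := mem_sup_left (Subgroup.subset_closure (Or.inr rfl))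
    have hzm : zpowers z ≤ A ⊔ B := zpowers_le.2 (mem_sup_left hzA)
    have h012 : a 0 * a 1 * a 2 ∈ A ⊔ B := by
      have := mul_mem (mul_mem (hzm hprod) (inv_mem h4)) (inv_mem h3)
      rwa [show a 0 * a 1 * a 2 * a 3 * a 4 * (a 4)⁻¹ * (a 3)⁻¹ = a 0 * a 1 * a 2 by group] at this
    have h0 : a 0 ∈ A ⊔ B := by
      have := mul_mem h012 (inv_mem hym)
      rwa [show a 0 * a 1 * a 2 * y⁻¹ = a 0 by rw [hy]; group] at this
    have h1 : a 1 ∈ A ⊔ B := by
      have := mul_mem (inv_mem h0) hxm
      rwa [show (a 0)⁻¹ * x = a 1 by rw [hx]; group] at this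
    have h2 : a 2 ∈ A ⊔ B := by
      have := mul_mem (inv_mem h1) hym
      rwa [show (a 1)⁻¹ * y = a 2 by rw [hy]; group] at this
    have hall : ∀ i, a i ∈ A ⊔ B := by intro i; fin_cases i <;> assumption
    refine eq_top_iff.2 fun p _ => ?_
    rcases hspan p with h | ⟨i, h⟩ | ⟨i, j, -, h⟩
    · exact hzm h
    · have := mul_mem (hall i) (inv_mem (hzm h))
      rwa [mul_inv_rev, inv_inv, ← mul_assoc, mul_inv_cancel, one_mul] at this
    · have := mul_mem (mul_mem (hall i) (hall j)) (inv_mem (hzm h))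
      rwa [mul_inv_rev, inv_inv, ← mul_assoc, mul_inv_cancel, one_mul] at this
  refine ⟨A, B, quat_equiv (by rw [hxx]; exact hz1) hx4 (hyy.trans hxx.symm) hxy hne,
    hord ▸ ⟨CfsgLib.Invol.dihedralEquiv (ho 3) (ho 4)⟩,
    fun g hg h hh => (mem_centralizer_iff.1 (hcomm hg) h hh).symm, htop, le_antisymm ?_ ?_⟩
  · rintro g ⟨hgA, hgB⟩
    refine mem_center_iff.2 fun p => ?_
    have hp : A ⊔ B ≤ centralizer ({g} : Set P) := sup_le
      (fun q hq => mem_centralizer_singleton_iff.2 ((mem_centralizer_iff.1 (hcomm hq) g hgB).symm))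
      (fun q hq => mem_centralizer_singleton_iff.2 (mem_centralizer_iff.1 (hcomm hgA) q hq))
    exact mem_centralizer_singleton_iff.1 (hp (htop ▸ mem_top p))
  · intro p hp
    have hz : zpowers z ≤ A ⊓ B := le_inf (zpowers_le.2 hzA) (zpowers_le.2 hzB)
    have hzcen : zpowers z ≤ center P := zpowers_le.2 (mem_center_iff.2 fun q => (hzc q).symm)
    refine hz ?_
    rcases hspan p with h | ⟨i, h⟩ | ⟨i, j, hij, h⟩
    · exact h
    · exfalso
      have hi : a i ∈ center P := by
        have := mul_mem hp (hzcen h)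
        rwa [mul_inv_cancel_left] at this
      obtain ⟨j, hj⟩ := exists_ne i
      have h1 := hsw i j hj.symm
      rw [← mem_center_iff.1 hi (a j)] at h1
      exact hz1 (mul_eq_right.1 h1.symm)
    · exfalso
      have hij' : a i * a j ∈ center P := by
        have := mul_mem hp (hzcen h)
        rwa [mul_inv_cancel_left] at this
      have h1 : a i * (a i * a j) = a i * a j * a i := mem_center_iff.1 hij' (a i)
      rw [mul_assoc (a i) (a j)] at h1
      have h2 : a i * a j = a j * a i := mul_left_cancel h1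
      rw [hsw i j hij] at h2
      exact hz1 (mul_eq_right.1 h2)

end CfsgLib.PGroup.RadicalFive
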