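import Cfsg.Agent.Lib.PGroup.RadicalFive.Action
import Mathlib.GroupTheory.SpecificGroups.Alternating
import Mathlib.GroupTheory.GroupAction.Quotient
import Mathlib.GroupTheory.Perm.Fin
import Mathlib.Data.ZMod.Basic

/-!
# Invariant quadratic maps on sixteen elements under the alternating group of degree five

A quadratic map invariant under a faithful action of `A₅` on an elementary abelian group of order
at most 16 takes at most one nontrivial value; if it takes one, five singular elements with product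
`1` span the group and every product of two of them is non-singular.
-/

set_option autoImplicit false
set_option linter.unusedSectionVars false

open Subgroup Equiv

namespace CfsgLib.PGroup.RadicalFive

universe u v

/-- A five-cycle. -/
def five : alternatingGroup (Fin 5) := ⟨finRotate 5, by rw [Equiv.Perm.mem_alternatingGroup]; decide⟩

/-- An involution inverting the five-cycle. -/
def invol : alternatingGroup (Fin 5) :=
  ⟨swap 1 4 * swap 2 3, by rw [Equiv.Perm.mem_alternatingGroup]; decide⟩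

theorem five_pow : five ^ 5 = 1 := by decide +kernel

theorem five_ne_one : five ≠ 1 := by decide +kernel

theorem invol_sq : invol * invol = 1 := by decide +kernel

theorem invol_ne_one : invol ≠ 1 := by decide +kernel

theorem invol_inverts : invol * five * invol⁻¹ * five = 1 := by decide +kernel

theorem five_shift : ∀ i j : Fin 5, i ≠ j →
    ∃ k : Fin 5, five ^ ((k : ℕ) * ((i : ℕ) + 5 - (j : ℕ))) = five := by
  decide +kernel

variable {V : Type u} [CommGroup V] [Finite V]

theorem exists_span (h2 : ∀ v : V, v * v = 1) (o : Fin 5 → V)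
    (hprod : o 0 * o 1 * o 2 * o 3 * o 4 = 1) (htop : closure (Set.range o) = ⊤) (v : V) :
    v = 1 ∨ (∃ i, v = o i) ∨ ∃ i j, i ≠ j ∧ v = o i * o j := by
  let φ : Multiplicative (Fin 4 → ZMod 2) →* V :=
    MonoidHom.mk' (fun e => o 0 ^ (e.toAdd 0).val * o 1 ^ (e.toAdd 1).val * o 2 ^ (e.toAdd 2).val *
      o 3 ^ (e.toAdd 3).val) fun a b => by
        have hx : ∀ (x : V) (p q : ZMod 2), x ^ (p + q).val = x ^ p.val * x ^ q.val := fun x p q => by
          rw [← pow_add, ZMod.val_add, ← pow_mod_orderOf]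
          conv_rhs => rw [← pow_mod_orderOf]
          rcases (Nat.dvd_prime Nat.prime_two).1
            (orderOf_dvd_of_pow_eq_one (by rw [sq]; exact h2 x) : orderOf x ∣ 2) with h | h <;> rw [h]
          · simp [Nat.mod_one]
          · rw [Nat.mod_mod]
        simp only [toAdd_mul, Pi.add_apply, hx]
        simp only [mul_assoc, mul_comm, mul_left_comm]
  have hE : ∀ i : Fin 5, o i = φ (Multiplicative.ofAdd (fun k : Fin 4 =>
      if (i : ℕ) = 4 ∨ (i : ℕ) = (k : ℕ) then (1 : ZMod 2) else 0)) := by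
    intro i
    fin_cases i <;> simp [φ, ZMod.val_one]
    exact (eq_inv_of_mul_eq_one_right hprod).trans (inv_eq_of_mul_eq_one_right (h2 _))
  have hv : v ∈ φ.range := by
    have : closure (Set.range o) ≤ φ.range := (closure_le _).2 (by
      rintro _ ⟨i, rfl⟩; exact ⟨_, (hE i).symm⟩)
    exact this (htop ▸ mem_top v)
  obtain ⟨e, rfl⟩ := hv
  have hdec : ∀ e : Fin 4 → ZMod 2, e = 0 ∨
      (∃ i : Fin 5, e = fun k : Fin 4 => if (i : ℕ) = 4 ∨ (i : ℕ) = (k : ℕ) then (1 : ZMod 2) else 0) ∨
      ∃ i j : Fin 5, i ≠ j ∧ e = (fun k : Fin 4 => if (i : ℕ) = 4 ∨ (i : ℕ) = (k : ℕ) then (1 : ZMod 2) else 0) +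
        fun k : Fin 4 => if (j : ℕ) = 4 ∨ (j : ℕ) = (k : ℕ) then (1 : ZMod 2) else 0 := by
    decide +kernel
  rcases hdec e.toAdd with h | ⟨i, h⟩ | ⟨i, j, hij, h⟩
  · exact Or.inl (by rw [← ofAdd_toAdd e, h, ofAdd_zero, map_one])
  · exact Or.inr (Or.inl ⟨i, by rw [hE, ← ofAdd_toAdd e, h]⟩)
  · exact Or.inr (Or.inr ⟨i, j, hij, by rw [hE i, hE j, ← map_mul, ← ofAdd_add, ← ofAdd_toAdd e, h]⟩)

theorem exists_frame (h2 : ∀ v : V, v * v = 1) (hV : Nat.card V ≤ 16)
    (ρ : alternatingGroup (Fin 5) →* MulAut V) (hρ : Function.Injective ρ)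
    {L : Type v} [CommGroup L] (hL : ∀ x : L, x * x = 1) (σ : V → L)
    (hinv : ∀ g v, σ (ρ g v) = σ v)
    (hbil : ∀ a b c : V, σ (a * b * c) * σ (a * b) * σ c =
      (σ (a * c) * σ a * σ c) * (σ (b * c) * σ b * σ c)) :
    (∀ v, σ v = 1) ∨ ∃ (o : Fin 5 → V) (w : L), o 0 * o 1 * o 2 * o 3 * o 4 = 1 ∧
      closure (Set.range o) = ⊤ ∧ (∀ i, σ (o i) = 1) ∧ (∀ i j, i ≠ j → σ (o i * o j) = w) ∧
      ∀ v, σ v = 1 ∨ σ v = w := by
  classical
  have h5 : ρ five ^ 5 = 1 := by rw [← map_pow, five_pow, map_one]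
  have hne : ρ five ≠ 1 := fun e => five_ne_one (hρ (by rw [e, map_one]))
  obtain ⟨h16, hbot, hirr⟩ := five_facts h2 hV h5 hne
  have hσ1 : σ 1 = 1 := by
    have := hbil 1 1 1
    simp only [mul_one, one_mul] at this
    rw [hL, hL] at this
    simpa using this
  have hfix : ∀ v, ρ five v = v → v = 1 := fun v hv => by
    have : v ∈ fixSub (ρ five) := hv
    rwa [hbot, mem_bot] at this
  -- the orbit of a vector under the five-cycle
  have hframe : ∀ v, v ≠ 1 → ∃ o : Fin 5 → V, o 0 = v ∧ (∀ i, ρ five (o i) = o (i + 1)) ∧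
      o 0 * o 1 * o 2 * o 3 * o 4 = 1 ∧ closure (Set.range o) = ⊤ ∧
      (∀ i, o i = ρ (five ^ (i : ℕ)) v) ∧ Function.Injective o := by
    intro v hv
    refine ⟨fun i => ρ (five ^ (i : ℕ)) v, by simp, ?_, ?_, ?_, fun i => rfl, ?_⟩
    · intro i
      show ρ five (ρ (five ^ (i : ℕ)) v) = ρ (five ^ ((i + 1 : Fin 5) : ℕ)) v
      rw [← MulAut.mul_apply, ← map_mul, ← pow_succ']
      congr 2
      rw [Fin.val_add]
      exact pow_eq_pow_mod _ five_pow
    · refine hfix _ ?_
      simp only [map_mul]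
      have e : ∀ n : ℕ, ρ five (ρ (five ^ n) v) = ρ (five ^ (n + 1)) v := fun n => by
        rw [← MulAut.mul_apply, ← map_mul, ← pow_succ']
      rw [show ((0 : Fin 5) : ℕ) = 0 from rfl, show ((1 : Fin 5) : ℕ) = 1 from rfl,
        show ((2 : Fin 5) : ℕ) = 2 from rfl, show ((3 : Fin 5) : ℕ) = 3 from rfl,
        show ((4 : Fin 5) : ℕ) = 4 from rfl, e, e, e, e, e, five_pow, pow_zero]
      simp only [mul_comm, mul_left_comm, mul_assoc]
    · refine hirr _ (fun x hx => ?_) (fun e => hv ?_)
      · have : (closure (Set.range fun i : Fin 5 => ρ (five ^ (i : ℕ)) v)) ≤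
            (closure (Set.range fun i : Fin 5 => ρ (five ^ (i : ℕ)) v)).comap
              (ρ five : MulAut V).toMonoidHom := (closure_le _).2 (by
          rintro _ ⟨i, rfl⟩
          refine subset_closure ⟨i + 1, ?_⟩
          show ρ (five ^ ((i + 1 : Fin 5) : ℕ)) v = ρ five (ρ (five ^ (i : ℕ)) v)
          rw [← MulAut.mul_apply, ← map_mul, ← pow_succ']
          congr 2
          rw [Fin.val_add]
          exact (pow_eq_pow_mod _ five_pow).symm)
        exact this hx
      · have h0 : v ∈ closure (Set.range fun i : Fin 5 => ρ (five ^ (i : ℕ)) v) :=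
          subset_closure ⟨0, by simp⟩
        rwa [e, mem_bot] at h0
    · intro i j hij
      by_contra hne'
      obtain ⟨k, hk⟩ := five_shift i j hne'
      refine hv (hfix v ?_)
      have hd : ρ (five ^ ((i : ℕ) + 5 - (j : ℕ))) v = v := by
        refine (ρ (five ^ (j : ℕ))).injective ?_
        rw [← MulAut.mul_apply, ← map_mul, ← pow_add, Nat.add_sub_cancel' (by omega), pow_add,
          five_pow, mul_one]
        exact hij
      have hpow : ∀ n : ℕ, ρ (five ^ (n * ((i : ℕ) + 5 - (j : ℕ)))) v = v := by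
        intro n
        induction n with
        | zero => simp
        | succ n ih => rw [Nat.succ_mul, pow_add, map_mul, MulAut.mul_apply, hd, ih]
      rw [← hk]
      exact hpow k
  obtain ⟨v0, hv0⟩ : ∃ v : V, v ≠ 1 := by
    by_contra h
    push Not at h
    exact hne (MulEquiv.ext fun v => by rw [h v, map_one]; rfl)
  by_cases hconst : ∀ a b : V, a ≠ 1 → b ≠ 1 → σ a = σ b
  · left
    obtain ⟨o, ho0, -, hprod, -, hov', hinj⟩ := hframe v0 hv0
    have hne2 : ∀ i j, i ≠ j → o i * o j ≠ 1 := fun i j hij e => hij (hinj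
      ((eq_inv_of_mul_eq_one_left e).trans (inv_eq_of_mul_eq_one_right (h2 _))))
    have hone : ∀ i, o i ≠ 1 := fun i e =>
      hv0 ((map_eq_one_iff _ (ρ (five ^ (i : ℕ))).injective).1 ((hov' i).symm.trans e))
    intro v
    rcases eq_or_ne v 1 with rfl | hv
    · exact hσ1
    have h3 : o 0 * o 1 * o 2 ≠ 1 := fun e => by
      rw [e, one_mul] at hprod
      exact hne2 3 4 (by decide) hprod
    have h := hbil (o 0) (o 1) (o 2)
    rw [hconst _ v (hne2 0 2 (by decide)) hv, hconst _ v (hne2 1 2 (by decide)) hv,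
      hconst _ v h3 hv, hconst _ v (hne2 0 1 (by decide)) hv, hconst (o 0) v (hone 0) hv,
      hconst (o 1) v (hone 1) hv, hconst (o 2) v (hone 2) hv, hL] at h
    simpa using h
  right
  letI act : MulAction (alternatingGroup (Fin 5)) V := MulAction.compHom V ρ
  have hsmul : ∀ (g : alternatingGroup (Fin 5)) (v : V), g • v = ρ g v := fun g v => rfl
  have hnmem : ∀ v : V, v ≠ 1 → ∀ x ∈ MulAction.orbit (alternatingGroup (Fin 5)) v, x ≠ 1 := by
    rintro v hv _ ⟨g, rfl⟩ e
    exact hv ((map_eq_one_iff _ (ρ g).injective).1 e)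
  -- sizes of orbits
  have hsize : ∀ v : V, v ≠ 1 → 5 ∣ Nat.card (MulAction.orbit (alternatingGroup (Fin 5)) v) ∧
      0 < Nat.card (MulAction.orbit (alternatingGroup (Fin 5)) v) := by
    intro v hv
    haveI : Fact (Nat.Prime 5) := ⟨Nat.prime_five⟩
    haveI : Nonempty (MulAction.orbit (alternatingGroup (Fin 5)) v) := ⟨⟨v, MulAction.mem_orbit_self v⟩⟩
    refine ⟨?_, Nat.card_pos⟩
    have hp : IsPGroup 5 (zpowers five) := IsPGroup.of_card (n := 1) (by
      rw [Nat.card_zpowers, orderOf_eq_prime five_pow five_ne_one, pow_one])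
    have h := hp.card_modEq_card_fixedPoints (MulAction.orbit (alternatingGroup (Fin 5)) v)
    haveI : IsEmpty (MulAction.fixedPoints (zpowers five) (MulAction.orbit (alternatingGroup (Fin 5)) v)) :=
      ⟨fun x => hnmem v hv _ x.1.2 (hfix _ (congrArg Subtype.val (x.2 ⟨five, mem_zpowers five⟩)))⟩
    exact Nat.modEq_zero_iff_dvd.1 (h.trans (congrArg (· % 5) (Nat.card_of_isEmpty
      (α := MulAction.fixedPoints (zpowers five) (MulAction.orbit (alternatingGroup (Fin 5)) v)))))
  obtain ⟨v, hv, hv5⟩ : ∃ v : V, v ≠ 1 ∧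
      Nat.card (MulAction.orbit (alternatingGroup (Fin 5)) v) = 5 := by
    have hub : ∀ S : Set V, (1 : V) ∉ S → Nat.card S ≤ 15 := by
      intro S hS
      have h1 : Nat.card (insert (1 : V) S : Set V) ≤ 16 :=
        h16 ▸ Nat.card_le_card_of_injective _ Subtype.val_injective
      rw [Nat.card_coe_set_eq, Set.ncard_insert_of_notMem hS, ← Nat.card_coe_set_eq] at h1
      omega
    obtain ⟨h0, hpos0⟩ := hsize v0 hv0
    by_cases h5' : Nat.card (MulAction.orbit (alternatingGroup (Fin 5)) v0) = 5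
    · exact ⟨v0, hv0, h5'⟩
    set O := MulAction.orbit (alternatingGroup (Fin 5)) v0 with hO
    have hO15 := hub O fun h => hnmem v0 hv0 1 h rfl
    obtain ⟨x, hx1, hxO⟩ : ∃ x : V, x ≠ 1 ∧ x ∉ O := by
      by_contra h
      push Not at h
      refine hconst fun a b ha hb => ?_
      obtain ⟨g, rfl⟩ := h a ha
      obtain ⟨g', rfl⟩ := h b hb
      exact (hinv g v0).trans (hinv g' v0).symm
    obtain ⟨hx5, hxpos⟩ := hsize x hx1
    have hdisj : Disjoint O (MulAction.orbit (alternatingGroup (Fin 5)) x) := by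
      rw [Set.disjoint_left]
      intro a ha ha'
      refine hxO ?_
      rw [hO, ← MulAction.orbit_eq_iff.2 ha, MulAction.orbit_eq_iff.2 ha']
      exact MulAction.mem_orbit_self x
    have hu := hub (O ∪ MulAction.orbit (alternatingGroup (Fin 5)) x) (by
      rintro (h | h)
      · exact hnmem v0 hv0 1 h rfl
      · exact hnmem x hx1 1 h rfl)
    rw [Nat.card_coe_set_eq, Set.ncard_union_eq hdisj, ← Nat.card_coe_set_eq, ← Nat.card_coe_set_eq] at hu
    exact ⟨x, hx1, by omega⟩
  obtain ⟨o, ho0, hshift, hprod, htop, hov, hinj⟩ := hframe v hv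
  set O := MulAction.orbit (alternatingGroup (Fin 5)) v with hO
  have hOeq : Set.range o = O := by
    refine Set.eq_of_subset_of_ncard_le (by rintro _ ⟨i, rfl⟩; exact ⟨five ^ (i : ℕ), (hov i).symm⟩) ?_
      (Set.toFinite _)
    rw [Set.ncard_range_of_injective hinj, Nat.card_fin, ← Nat.card_coe_set_eq, hv5]
  have hperm : ∀ g i, ∃ j, ρ g (o i) = o j := fun g i => by
    have hi : o i ∈ O := hOeq ▸ Set.mem_range_self i
    obtain ⟨k, hk⟩ := hi
    have : ρ g (o i) ∈ O := ⟨g * k, by rw [← hk]; exact mul_smul g k v⟩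
    rw [← hOeq] at this
    obtain ⟨j, hj⟩ := this
    exact ⟨j, hj.symm⟩
  choose π hπ using hperm
  have hπmul : ∀ g g' i, π (g * g') i = π g (π g' i) := fun g g' i => hinj (by
    rw [← hπ, map_mul, MulAut.mul_apply, hπ, hπ])
  have hπone : ∀ i, π 1 i = i := fun i => hinj (by rw [← hπ, map_one]; rfl)
  let P : alternatingGroup (Fin 5) →* Perm (Fin 5) := MonoidHom.mk' (fun g =>
    { toFun := π g
      invFun := π g⁻¹
      left_inv := fun i => by rw [← hπmul, inv_mul_cancel, hπone]
      right_inv := fun i => by rw [← hπmul, mul_inv_cancel, hπone] })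
    fun g g' => Equiv.ext fun i => hπmul g g' i
  have hPinj : Function.Injective P := by
    rw [injective_iff_map_eq_one]
    intro g hg
    refine hρ (MulEquiv.ext fun x => ?_)
    rw [map_one]
    have hx : x ∈ closure (Set.range o) := htop ▸ mem_top x
    induction hx using closure_induction with
    | mem x hx =>
      obtain ⟨i, rfl⟩ := hx
      rw [hπ, show π g i = i from Equiv.ext_iff.1 hg i]; rfl
    | one => exact map_one _
    | mul a b _ _ ha hb => rw [map_mul, ha, hb]; rfl
    | inv a _ ha => rw [map_inv, ha]; rfl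
  have hrange : P.range = alternatingGroup (Fin 5) := by
    refine Equiv.Perm.eq_alternatingGroup_of_index_eq_two ?_
    have h1 := P.range.card_mul_index
    rw [← Nat.card_congr (MonoidHom.ofInjective hPinj).toEquiv, Nat.card_perm, Nat.card_fin] at h1
    have h2' := (alternatingGroup (Fin 5)).card_mul_index
    rw [alternatingGroup.index_eq_two, Nat.card_perm, Nat.card_fin] at h2'
    refine Nat.eq_of_mul_eq_mul_left (Nat.card_pos (α := alternatingGroup (Fin 5))) ?_
    rw [h1, h2']
  obtain ⟨g, hg⟩ : swap (1 : Fin 5) 2 * swap 3 4 ∈ P.range := by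
    rw [hrange, Equiv.Perm.mem_alternatingGroup]; decide
  have hg' : ∀ i, π g i = (swap (1 : Fin 5) 2 * swap 3 4 : Perm (Fin 5)) i := fun i => Equiv.ext_iff.1 hg i
  -- values
  set p : Fin 5 → Fin 5 → L := fun i j => σ (o i * o j) with hp
  have hps : ∀ i j, p (i + 1) (j + 1) = p i j := fun i j => by
    show σ _ = σ _
    rw [← hshift, ← hshift, ← map_mul, hinv]
  have hpg : p 0 2 = p 0 1 := by
    have h := hinv g (o 0 * o 1)
    rwa [map_mul, hπ, hπ, hg', hg', show (swap (1 : Fin 5) 2 * swap 3 4 : Perm (Fin 5)) 0 = 0 by decide,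
      show (swap (1 : Fin 5) 2 * swap 3 4 : Perm (Fin 5)) 1 = 2 by decide] at h
  have hcomm : ∀ i j, p i j = p j i := fun i j => congrArg σ (mul_comm _ _)
  have hpn : ∀ k i j, p (i + k) (j + k) = p i j := by
    have h1 : ∀ (n : ℕ) i j, p (i + n • (1 : Fin 5)) (j + n • (1 : Fin 5)) = p i j := by
      intro n
      induction n with
      | zero => intro i j; rw [zero_smul, add_zero, add_zero]
      | succ n ih => intro i j; rw [succ_nsmul, ← add_assoc, ← add_assoc, hps, ih]
    intro k i j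
    have hk : ∀ k : Fin 5, (k : ℕ) • (1 : Fin 5) = k := by decide
    rw [← hk k]
    exact h1 _ i j
  have hw : ∀ i j, i ≠ j → p i j = p 0 1 := by
    intro i j hij
    have hd : ∀ i j : Fin 5, i ≠ j →
        (j = i + 1) ∨ (i = j + 1) ∨ (j = i + 2) ∨ (i = j + 2) := by decide
    rcases hd i j hij with rfl | rfl | rfl | rfl
    · rw [← hpn i 0 1, zero_add, add_comm]
    · rw [hcomm, ← hpn j 0 1, zero_add, add_comm]
    · rw [← hpg, ← hpn i 0 2, zero_add, add_comm]
    · rw [hcomm, ← hpg, ← hpn j 0 2, zero_add, add_comm]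
  have hu : ∀ i, σ (o i) = σ (o 0) := fun i => by rw [hov, hinv, ho0]
  have h012 : o 0 * o 1 * o 2 = o 3 * o 4 := by
    rw [mul_assoc _ (o 3) (o 4)] at hprod
    exact (eq_inv_of_mul_eq_one_left hprod).trans (inv_eq_of_mul_eq_one_right (h2 _))
  have hu1 : σ (o 0) = 1 := by
    have h := hbil (o 0) (o 1) (o 2)
    rw [h012, show σ (o 3 * o 4) = p 0 1 from hw 3 4 (by decide),
      show σ (o 0 * o 1) = p 0 1 from rfl, show σ (o 0 * o 2) = p 0 1 from hw 0 2 (by decide),
      show σ (o 1 * o 2) = p 0 1 from hw 1 2 (by decide), hu 1, hu 2, hL, one_mul] at h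
    simp only [mul_assoc, hL, mul_one] at h
    exact h
  refine ⟨o, p 0 1, hprod, htop, fun i => (hu i).trans hu1, fun i j hij => hw i j hij, fun x => ?_⟩
  rcases exists_span h2 o hprod htop x with rfl | ⟨i, rfl⟩ | ⟨i, j, hij, rfl⟩
  · exact Or.inl hσ1
  · exact Or.inl ((hu i).trans hu1)
  · exact Or.inr (hw i j hij)

end CfsgLib.PGroup.RadicalFive
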