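import Cfsg.Prelude.Def_CaseTheorems
import Mathlib.GroupTheory.QuotientGroup.Basic
import Mathlib.GroupTheory.Commutator.Basic
import Mathlib.GroupTheory.Index

/-!
# An elementary section of order 32 over a layer

Let `Q` be a normal subgroup with a central elementary abelian subgroup `Λ`, normal in the whole
group, with `Q/Λ` elementary abelian, and `t` an element outside `Q` with `t * t ∈ Q`.  If every
element of `Q` fixed by `t` modulo `Λ` is a commutator with `t` modulo `Λ`, these elements make up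
at least four cosets and `t` fixes a subgroup of index at least four in `Λ`, then the group has an
elementary abelian section of order at least 32.
-/

set_option autoImplicit false
set_option linter.unusedSectionVars false

open Subgroup

namespace CfsgLib.PGroup.RadicalFive

universe u

variable {X : Type u} [Group X] [Finite X]

/-- The elements of `Q` fixed by `t` modulo `Λ`. -/
def modFix (Q Λ : Subgroup X) [Λ.Normal] (t : X) : Subgroup X :=
  Q ⊓ (centralizer ({(t : X ⧸ Λ)} : Set (X ⧸ Λ))).comap (QuotientGroup.mk' Λ)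

theorem mem_modFix {Q Λ : Subgroup X} [Λ.Normal] {t q : X} :
    q ∈ modFix Q Λ t ↔ q ∈ Q ∧ (t * q)⁻¹ * (q * t) ∈ Λ := by
  refine and_congr Iff.rfl ?_
  show (q : X ⧸ Λ) ∈ centralizer ({(t : X ⧸ Λ)} : Set (X ⧸ Λ)) ↔ _
  rw [mem_centralizer_singleton_iff, ← QuotientGroup.mk_mul, ← QuotientGroup.mk_mul, eq_comm,
    QuotientGroup.eq]

theorem false_of_layer (h4 : Cfsg.SectionalPRankLE 2 4 X) (Q Λ : Subgroup X) [Q.Normal] [Λ.Normal]
    (hΛQ : Λ ≤ Q) (hc : ∀ z ∈ Λ, ∀ q ∈ Q, z * q = q * z) (hΛ2 : ∀ z ∈ Λ, z * z = 1)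
    (hsq : ∀ q ∈ Q, q * q ∈ Λ) (t : X) (ht : t * t ∈ Q) (htQ : t ∉ Q)
    (hcov : ∀ q ∈ modFix Q Λ t, ∃ v ∈ Q, (v⁻¹ * (t * v * t⁻¹))⁻¹ * q ∈ Λ)
    (hC : 4 * Nat.card Λ ≤ Nat.card (modFix Q Λ t))
    (hN : 4 * Nat.card (Λ ⊓ centralizer ({t} : Set X) : Subgroup X) ≤ Nat.card Λ) : False := by
  -- choice of the representative `s`
  have htt : t * t ∈ modFix Q Λ t := mem_modFix.2 ⟨ht, by
    rw [show (t * (t * t))⁻¹ * (t * t * t) = 1 by group]; exact one_mem Λ⟩
  obtain ⟨u, hu, hu'⟩ := hcov _ htt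
  set δ := u⁻¹ * (t * u * t⁻¹) with hδ
  have hδQ : δ ∈ Q := mul_mem (inv_mem hu) ((inferInstance : Q.Normal).conj_mem u hu t)
  set s := u * t with hs
  have hss : s * s ∈ Λ := by
    have e : s * s = (u * u) * (δ * δ) * (δ⁻¹ * (t * t)) := by rw [hs, hδ]; group
    rw [e]
    exact mul_mem (mul_mem (hsq u hu) (hsq δ hδQ)) hu'
  have hsQ : s ∉ Q := fun h => htQ (by simpa [hs] using mul_mem (inv_mem hu) h)
  have hΛst : ∀ z ∈ Λ, s * z * s⁻¹ = t * z * t⁻¹ := fun z hz => by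
    have h1 := hc _ ((inferInstance : Λ.Normal).conj_mem z hz t) u hu
    rw [hs, show u * t * z * (u * t)⁻¹ = u * (t * z * t⁻¹) * u⁻¹ by group, ← h1, mul_inv_cancel_right]
  set N := Λ ⊓ centralizer ({t} : Set X) with hNdef
  have memN : ∀ {z}, z ∈ N ↔ z ∈ Λ ∧ s * z * s⁻¹ = z := fun {z} => by
    refine and_congr_right fun hz => ?_
    show z ∈ centralizer ({t} : Set X) ↔ _
    rw [mem_centralizer_singleton_iff, hΛst z hz, mul_inv_eq_iff_eq_mul]
    exact eq_comm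
  set C := modFix Q Λ t with hCdef
  -- congruences modulo `Λ`
  have hCs : ∀ q ∈ C, ∃ z ∈ Λ, s * q * s⁻¹ = q * z := fun q hq => by
    obtain ⟨hqQ, hq'⟩ := mem_modFix.1 hq
    refine ⟨q⁻¹ * (s * q * s⁻¹), ?_, by group⟩
    have h1 : q⁻¹ * (t * q * t⁻¹) ∈ Λ := by
      have h0 := (inferInstance : Λ.Normal).conj_mem _ (inv_mem hq') t
      rwa [show t * ((t * q)⁻¹ * (q * t))⁻¹ * t⁻¹ = q⁻¹ * (t * q * t⁻¹) by group] at h0
    set r := t * q * t⁻¹ with hr
    have hrQ : r ∈ Q := (inferInstance : Q.Normal).conj_mem q hqQ t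
    have hcm : r⁻¹ * (u * r * u⁻¹) ∈ Λ := by
      have e : r⁻¹ * (u * r * u⁻¹) = (r⁻¹ * r⁻¹) * ((r * u) * (r * u)) * (u⁻¹ * u⁻¹) := by group
      rw [e]
      exact mul_mem (mul_mem (hsq _ (inv_mem hrQ)) (hsq _ (mul_mem hrQ hu))) (hsq _ (inv_mem hu))
    have := mul_mem h1 hcm
    rwa [show q⁻¹ * r * (r⁻¹ * (u * r * u⁻¹)) = q⁻¹ * (s * q * s⁻¹) by rw [hr, hs]; group] at this
  have hsq' : ∀ q ∈ C, q * q ∈ N := fun q hq => by
    have hqQ := (mem_modFix.1 hq).1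
    refine memN.2 ⟨hsq q hqQ, ?_⟩
    obtain ⟨z, hz, e⟩ := hCs q hq
    calc s * (q * q) * s⁻¹ = (s * q * s⁻¹) * (s * q * s⁻¹) := by group
      _ = q * (z * q) * z := by rw [e]; group
      _ = q * q * (z * z) := by rw [hc z hz q hqQ]; group
      _ = q * q := by rw [hΛ2 z hz, mul_one]
  have hcomm : ∀ a ∈ C, ∀ b ∈ C, a * b * a⁻¹ * b⁻¹ ∈ N := fun a ha b hb => by
    have haQ := (mem_modFix.1 ha).1
    have hbQ := (mem_modFix.1 hb).1
    refine memN.2 ⟨?_, ?_⟩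
    · rw [show a * b * a⁻¹ * b⁻¹ = (a * b) * (a * b) * (b⁻¹ * (a⁻¹ * a⁻¹) * b⁻¹⁻¹) * (b⁻¹ * b⁻¹) by group]
      exact mul_mem (mul_mem (hsq _ (mul_mem haQ hbQ))
        ((inferInstance : Λ.Normal).conj_mem _ (hsq _ (inv_mem haQ)) _)) (hsq _ (inv_mem hbQ))
    obtain ⟨z, hz, e⟩ := hCs a ha
    obtain ⟨z', hz', e'⟩ := hCs b hb
    calc s * (a * b * a⁻¹ * b⁻¹) * s⁻¹
        = (s * a * s⁻¹) * (s * b * s⁻¹) * (s * a * s⁻¹)⁻¹ * (s * b * s⁻¹)⁻¹ := by group
      _ = a * (z * b) * z' * z⁻¹ * a⁻¹ * z'⁻¹ * b⁻¹ := by rw [e, e']; group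
      _ = a * b * (z * z' * z⁻¹) * a⁻¹ * z'⁻¹ * b⁻¹ := by rw [hc z hz b hbQ]; group
      _ = a * b * (z' * a⁻¹) * z'⁻¹ * b⁻¹ := by rw [hc z hz z' (hΛQ hz'), mul_inv_cancel_right]; group
      _ = a * b * a⁻¹ * b⁻¹ := by rw [hc z' hz' _ (inv_mem haQ)]; group
  have hscomm : ∀ q ∈ C, s * q * s⁻¹ * q⁻¹ ∈ N := fun q hq => by
    obtain ⟨v, hv, hv'⟩ := hcov q hq
    set d := v⁻¹ * (s * v * s⁻¹) with hd
    set d₀ := v⁻¹ * (t * v * t⁻¹) with hd₀
    have hd₀Q : d₀ ∈ Q := mul_mem (inv_mem hv) ((inferInstance : Q.Normal).conj_mem v hv t)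
    have hdQ : d ∈ Q := mul_mem (inv_mem hv) ((inferInstance : Q.Normal).conj_mem v hv s)
    -- `d ≡ d₀`
    have hdd : d⁻¹ * d₀ ∈ Λ := by
      set r := t * v * t⁻¹ with hr
      have hrQ : r ∈ Q := (inferInstance : Q.Normal).conj_mem v hv t
      rw [show d⁻¹ * d₀ = (u * r⁻¹) * (u * r⁻¹) * ((r * (u⁻¹ * u⁻¹) * r⁻¹)) * (r * r) by
        rw [hd, hd₀, hr, hs]; group]
      exact mul_mem (mul_mem (hsq _ (mul_mem hu (inv_mem hrQ)))
        ((inferInstance : Λ.Normal).conj_mem _ (hsq _ (inv_mem hu)) _)) (hsq _ hrQ)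
    set z := d⁻¹ * q with hz
    have hzΛ : z ∈ Λ := by
      have := mul_mem hdd hv'
      rwa [show d⁻¹ * d₀ * (d₀⁻¹ * q) = z by rw [hz]; group] at this
    have hdC : d ∈ C := by
      have : (t * z)⁻¹ * (z * t) ∈ Λ := by
        rw [show (t * z)⁻¹ * (z * t) = z⁻¹ * (t⁻¹ * z * t⁻¹⁻¹) by group]
        exact mul_mem (inv_mem hzΛ) ((inferInstance : Λ.Normal).conj_mem _ hzΛ _)
      rw [show d = q * z⁻¹ by rw [hz]; group]
      exact mul_mem hq (inv_mem (mem_modFix.2 ⟨hΛQ hzΛ, this⟩))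
    have hsd : s * d * s⁻¹ = d⁻¹ := by
      have h1 : (s * s) * v * (s * s)⁻¹ = v := by rw [hc _ hss v hv, mul_inv_cancel_right]
      calc s * d * s⁻¹ = (s * v * s⁻¹)⁻¹ * ((s * s) * v * (s * s)⁻¹) := by rw [hd]; group
        _ = d⁻¹ := by rw [h1, hd]; group
    have hzN : s * z * s⁻¹ * z⁻¹ ∈ N := by
      refine memN.2 ⟨mul_mem ((inferInstance : Λ.Normal).conj_mem z hzΛ s) (inv_mem hzΛ), ?_⟩
      have h1 : (s * s) * z * (s * s)⁻¹ = z := by rw [hc _ hss z (hΛQ hzΛ), mul_inv_cancel_right]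
      have hw : s * z * s⁻¹ * z⁻¹ ∈ Λ :=
        mul_mem ((inferInstance : Λ.Normal).conj_mem z hzΛ s) (inv_mem hzΛ)
      calc s * (s * z * s⁻¹ * z⁻¹) * s⁻¹ = (s * s) * z * (s * s)⁻¹ * (s * z * s⁻¹)⁻¹ := by group
        _ = (s * z * s⁻¹ * z⁻¹)⁻¹ := by rw [h1]; group
        _ = s * z * s⁻¹ * z⁻¹ := inv_eq_of_mul_eq_one_right (hΛ2 _ hw)
    have hdz : d⁻¹ * (s * z * s⁻¹ * z⁻¹) * d⁻¹ ∈ N := by
      rw [mul_assoc, hc _ (memN.1 hzN).1 _ (inv_mem hdQ), ← mul_assoc]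
      exact mul_mem (by
        have := inv_mem (hsq' d hdC)
        rwa [mul_inv_rev] at this) hzN
    rwa [show s * q * s⁻¹ * q⁻¹ = d⁻¹ * (s * z * s⁻¹ * z⁻¹) * d⁻¹ by
      rw [show q = d * z by rw [hz]; group,
        show s * (d * z) * s⁻¹ * (d * z)⁻¹ = (s * d * s⁻¹) * (s * z * s⁻¹ * z⁻¹) * d⁻¹ by group, hsd]]
  -- the section
  set gens : Set X := insert s (C : Set X) with hgens
  set H := closure gens with hH
  have hCH : C ≤ H := fun q hq => subset_closure (Or.inr hq)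
  have hsH : s ∈ H := subset_closure (Or.inl rfl)
  have hNC : N ≤ C := fun z hz => mem_modFix.2 ⟨hΛQ hz.1, by
    rw [show t * z = z * t from (mem_centralizer_singleton_iff.1 hz.2).symm, inv_mul_cancel]
    exact one_mem Λ⟩
  have hNcent : ∀ h ∈ H, ∀ z ∈ N, h * z = z * h := by
    intro h hh z hz
    refine (mem_centralizer_singleton_iff.1 ((?_ : H ≤ centralizer ({z} : Set X)) hh))
    refine (closure_le _).2 ?_
    rintro g (rfl | hg) <;> rw [SetLike.mem_coe, mem_centralizer_singleton_iff]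
    · exact mul_inv_eq_iff_eq_mul.1 (memN.1 hz).2
    · exact (hc z (memN.1 hz).1 g (mem_modFix.1 hg).1).symm
  haveI : (N.subgroupOf H).Normal := ⟨fun a ha h => by
    rw [mem_subgroupOf] at ha ⊢
    rwa [coe_mul, coe_mul, coe_inv, hNcent _ h.2 _ ha, mul_inv_cancel_right]⟩
  let π := QuotientGroup.mk' (N.subgroupOf H)
  have hmem : ∀ p : H, (p : X) ∈ N → π p = 1 := fun p hp =>
    (QuotientGroup.eq_one_iff p).2 (mem_subgroupOf.2 hp)
  let G : Set (↥H ⧸ N.subgroupOf H) := π '' ((↑) ⁻¹' gens)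
  have hGtop : closure G = ⊤ := by
    rw [← MonoidHom.map_closure, closure_closure_coe_preimage, ← MonoidHom.range_eq_map,
      QuotientGroup.range_mk']
  have hGcomm : ∀ a ∈ G, ∀ b ∈ G, Commute a b := by
    rintro _ ⟨a, ha, rfl⟩ _ ⟨b, hb, rfl⟩
    show π a * π b = π b * π a
    rw [← mul_inv_eq_iff_eq_mul, ← mul_inv_eq_one, ← map_inv, ← map_inv, ← map_mul, ← map_mul, ← map_mul]
    refine hmem _ ?_
    show (a : X) * b * (a : X)⁻¹ * (b : X)⁻¹ ∈ N
    rcases ha with ha | ha <;> rcases hb with hb | hb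
    · rw [ha, hb, show s * s * s⁻¹ * s⁻¹ = 1 by group]; exact one_mem N
    · rw [ha]; exact hscomm _ hb
    · rw [hb, show (a : X) * s * (a : X)⁻¹ * s⁻¹ = (s * a * s⁻¹ * (a : X)⁻¹)⁻¹ by group]
      exact inv_mem (hscomm _ ha)
    · exact hcomm _ ha _ hb
  have hcommT : ∀ a b : ↥H ⧸ N.subgroupOf H, Commute a b := by
    have h1 : ∀ a ∈ G, ∀ b, Commute a b := by
      intro a ha b
      have hb : b ∈ closure G := hGtop ▸ mem_top b
      induction hb using closure_induction with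
      | mem w hw => exact hGcomm a ha w hw
      | one => exact Commute.one_right a
      | mul x y _ _ hx hy => exact hx.mul_right hy
      | inv x _ hx => exact hx.inv_right
    intro a b
    have ha : a ∈ closure G := hGtop ▸ mem_top a
    induction ha using closure_induction with
    | mem w hw => exact h1 w hw b
    | one => exact Commute.one_left b
    | mul x y _ _ hx hy => exact hx.mul_left hy
    | inv x _ hx => exact hx.inv_left
  have hexp : ∀ a : ↥H ⧸ N.subgroupOf H, a ^ 2 = 1 := by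
    intro a
    have ha : a ∈ closure G := hGtop ▸ mem_top a
    induction ha using closure_induction with
    | mem w hw =>
      obtain ⟨p, hp, rfl⟩ := hw
      rw [← map_pow]
      refine hmem _ ?_
      rw [SubgroupClass.coe_pow, sq]
      rcases hp with hp | hp
      · rw [hp]; exact memN.2 ⟨hss, by group⟩
      · exact hsq' _ hp
    | one => exact one_pow _
    | mul x y _ _ hx hy => rw [(hcommT x y).mul_pow, hx, hy, one_mul]
    | inv x _ hx => rw [inv_pow, hx, inv_one]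
  have hle := h4 H (N.subgroupOf H) ⊤ ⟨⟨fun a b => Subtype.ext (hcommT a.1 b.1).eq⟩⟩ (fun a _ => hexp a)
  rw [Subgroup.card_top, ← Subgroup.index, ← Subgroup.relIndex] at hle
  have h1 : Nat.card N * N.relIndex H = Nat.card H := by
    rw [← relIndex_bot_left, relIndex_mul_relIndex ⊥ N H bot_le (hNC.trans hCH), relIndex_bot_left]
  have h2 : 2 * Nat.card C ≤ Nat.card H := by
    have hf : Function.Injective (fun p : Fin 2 × C => (⟨s ^ (p.1 : ℕ) * (p.2 : X),
        mul_mem (pow_mem hsH _) (hCH p.2.2)⟩ : H)) := by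
      rintro ⟨i, a⟩ ⟨j, b⟩ h
      have h' : s ^ (i : ℕ) * (a : X) = s ^ (j : ℕ) * (b : X) := congrArg Subtype.val h
      have hne : ∀ a b : C, (a : X) ≠ s * b := fun a b e => hsQ (by
        rw [show s = (a : X) * (b : X)⁻¹ by rw [e, mul_inv_cancel_right]]
        exact mul_mem (mem_modFix.1 a.2).1 (inv_mem (mem_modFix.1 b.2).1))
      fin_cases i <;> fin_cases j <;> simp at h'
      · exact Prod.ext rfl h'
      · exact absurd h' (hne a b)
      · exact absurd h'.symm (hne b a)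
      · exact Prod.ext rfl h'
    have := Nat.card_le_card_of_injective _ hf
    rwa [Nat.card_prod, Nat.card_fin] at this
  have h32 : Nat.card N * 32 ≤ Nat.card N * N.relIndex H := by omega
  have := Nat.le_of_mul_le_mul_left h32 Nat.card_pos
  omega

end CfsgLib.PGroup.RadicalFive
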