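import Cfsg.Agent.Lib.PGroup.RadicalFive.Sit
import Cfsg.Agent.Lib.PGroup.RadicalFive.CentralProduct
import Cfsg.Agent.Lib.Coprime.Action
import Cfsg.Agent.Lib.Coprime.PGroupFrattini
import Cfsg.Prelude.Def_Transfer

/-!
# The radical below an alternating quotient of degree five

A self-centralising normal 2-subgroup with quotient `A₅` in a group of sectional 2-rank at most four
is elementary abelian of order 16 or `Q₈ ∘ D₈`.
-/

set_option autoImplicit false
set_option linter.unusedSectionVars false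
set_option linter.style.haveILetI false

open Subgroup

namespace CfsgLib.PGroup.RadicalFive

universe u

variable {Y : Type u} [Group Y] [Finite Y]

theorem mem_zpowers_two {w z : Y} (hw : w * w = 1) (hz : z ∈ zpowers w) : z = 1 ∨ z = w := by
  obtain ⟨n, rfl⟩ := (Submonoid.mem_powers_iff _ _).1 (mem_powers_iff_mem_zpowers.2 hz)
  obtain ⟨k, rfl | rfl⟩ := Nat.even_or_odd' n
  · exact Or.inl (by rw [pow_mul, pow_two, hw, one_pow])
  · exact Or.inr (by rw [pow_succ, pow_mul, pow_two, hw, one_pow, one_mul])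

theorem minimal_of_maximal {R Φ : Subgroup Y} [R.Normal] [Φ.Normal] (hlt : R < Φ)
    (hmax : ∀ M : Subgroup Y, M.Normal → R ≤ M → M < Φ → M ≤ R) :
    Φ.map (QuotientGroup.mk' R) ≠ ⊥ ∧
      ∀ N : Subgroup (Y ⧸ R), N.Normal → N ≤ Φ.map (QuotientGroup.mk' R) → N ≠ ⊥ →
        N = Φ.map (QuotientGroup.mk' R) := by
  refine ⟨fun e => hlt.not_ge fun x hx => ?_, fun N hN hle hne => ?_⟩
  · have := mem_map_of_mem (QuotientGroup.mk' R) hx
    rw [e, mem_bot] at this
    exact (QuotientGroup.eq_one_iff x).1 this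
  · haveI := hN
    have h1 : N.comap (QuotientGroup.mk' R) ≤ Φ := fun x hx => (mk_mem_map hlt.le).1 (hle hx)
    rcases eq_or_lt_of_le h1 with e | e
    · rw [← e, map_comap_eq_self_of_surjective (QuotientGroup.mk'_surjective R)]
    · refine absurd (eq_bot_iff.2 fun x hx => ?_) hne
      obtain ⟨y, rfl⟩ := QuotientGroup.mk'_surjective R x
      refine mem_bot.2 ((QuotientGroup.eq_one_iff y).2 (hmax _ inferInstance (fun r hr => ?_) e hx))
      show (r : Y ⧸ R) ∈ N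
      rw [(QuotientGroup.eq_one_iff r).2 hr]
      exact one_mem N

theorem Sit.minimal_pack {π : Y →* alternatingGroup (Fin 5)} {Q Φ : Subgroup Y} [Q.Normal] [Φ.Normal]
    (S : Sit π Q Φ) (hne : Φ ≠ ⊥) (hmin : ∀ M : Subgroup Y, M.Normal → M ≤ Φ → M ≠ ⊥ → M = Φ) :
    ∃ (a : Fin 5 → Y) (w : Y), w ∈ Φ ∧ w ≠ 1 ∧ w * w = 1 ∧ (∀ y, w * y = y * w) ∧ zpowers w = Φ ∧
      Nat.card Q = 32 ∧ (∀ i, a i ∈ Q) ∧ (∀ i, a i * a i = 1) ∧
      (∀ i j, i ≠ j → a i * a j * (a i * a j) = w) ∧ a 0 * a 1 * a 2 * a 3 * a 4 ∈ Φ ∧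
      ∀ q ∈ Q, q ∈ Φ ∨ (∃ i, q⁻¹ * a i ∈ Φ) ∨ ∃ i j, i ≠ j ∧ q⁻¹ * (a i * a j) ∈ Φ := by
  obtain ⟨hc, h2⟩ := minimal_layer S.pgroup S.le hne hmin
  obtain ⟨hcen, hcard⟩ := S.layer_central hc h2
  rcases S.frame hcen h2 with h | ⟨a, w, hw, hw1, haQ, ha, hpair, hprod, -, hspan⟩
  · exact absurd (eq_bot_iff.2 (S.gen ⊥ fun q hq => mem_bot.2 (h q hq))) hne
  have hwc : ∀ y, w * y = y * w := fun y => (mem_center_iff.1 (hcen hw) y).symm
  have hzn : (zpowers w).Normal := ⟨fun n hn g => by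
    rw [mem_center_iff.1 (zpowers_le.2 (hcen hw) hn) g, mul_inv_cancel_right]
    exact hn⟩
  have heq : zpowers w = Φ := hmin _ hzn (zpowers_le.2 hw) (zpowers_ne_bot.2 hw1)
  refine ⟨a, w, hw, hw1, h2 w hw, hwc, heq, ?_, haQ, ha, hpair, hprod, hspan⟩
  rw [hcard, ← heq, Nat.card_zpowers, orderOf_eq_prime (p := 2) (hp := ⟨Nat.prime_two⟩)
    (by rw [pow_two]; exact h2 w hw) hw1]

variable {X : Type u} [Group X] [Finite X]

theorem sit_frattini {Q : Subgroup X} [Q.Normal] (hQ : IsPGroup 2 Q)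
    (hC : centralizer (Q : Set X) ≤ Q) (h4 : Cfsg.SectionalPRankLE 2 4 X)
    {π : X →* alternatingGroup (Fin 5)} (hπ : Function.Surjective π) (hker : π.ker = Q) :
    Sit π Q ((frattini Q).map Q.subtype) where
  h4 := h4
  surj := hπ
  ker := hker
  pgroup := hQ
  le := map_subtype_le _
  sq q hq := by
    haveI : Fact (Nat.Prime 2) := ⟨Nat.prime_two⟩
    exact ⟨⟨q, hq⟩ ^ 2, CfsgLib.Coprime.pow_mem_frattini hQ _, by
      show ((⟨q, hq⟩ ^ 2 : Q) : X) = q * q
      rw [SubgroupClass.coe_pow, pow_two]⟩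
  gen M hM := by
    haveI : Fact (Nat.Prime 2) := ⟨Nat.prime_two⟩
    refine map_le_iff_le_comap.2 (CfsgLib.FrattiniLe.frattini_le_of_pow_of_commutator
      (p := 2) (fun x => ?_) ?_)
    · show ((x ^ 2 : Q) : X) ∈ M
      rw [SubgroupClass.coe_pow, pow_two]
      exact hM x x.2
    · rw [_root_.commutator_def, commutator_le]
      intro g _ k _
      show ((g * k * g⁻¹ * k⁻¹ : Q) : X) ∈ M
      exact comm_mem_of_sq hM g.2 k.2
  faith := by
    haveI : Fact (Nat.Prime 2) := ⟨Nat.prime_two⟩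
    by_contra h
    push Not at h
    obtain ⟨y, hy⟩ := hπ five
    obtain ⟨s, r, hr, hsr⟩ := Nat.exists_eq_two_pow_mul_odd (orderOf_pos y).ne'
    have hrpow : (y ^ 2 ^ s) ^ r = 1 := by rw [← pow_mul, ← hsr, pow_orderOf_eq_one]
    have hyQ : y ^ 2 ^ s ∈ Q := by
      refine hC (CfsgLib.Coprime.le_centralizer_of_trivial_on_frattini_quotient
        (A := zpowers (y ^ 2 ^ s)) (K := Q) ?_ ?_ (fun a _ k hk => h a k hk) (mem_zpowers _))
      · rw [Subgroup.normalizer_eq_top]; exact le_top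
      · rw [Nat.card_zpowers]
        obtain ⟨n, hn⟩ := IsPGroup.iff_card.1 (hQ.to_subgroup (frattini ↥Q))
        rw [hn]
        exact Nat.Coprime.coprime_dvd_left (orderOf_dvd_of_pow_eq_one hrpow)
          ((Nat.coprime_two_right.2 hr).pow_right n)
    have h1 : five ^ 2 ^ s = 1 := by
      rw [← hy, ← map_pow]
      exact MonoidHom.mem_ker.1 (hker.ge hyQ)
    haveI : Fact (Nat.Prime 5) := ⟨Nat.prime_five⟩
    have h5 := orderOf_dvd_of_pow_eq_one h1
    rw [orderOf_eq_prime five_pow five_ne_one] at h5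
    exact absurd (Nat.prime_five.dvd_of_dvd_pow h5) (by norm_num)

/-- The Frattini subgroup is a minimal normal subgroup when nontrivial. -/
theorem Sit.bot_of_maximal {π : X →* alternatingGroup (Fin 5)} {Q Φ : Subgroup X} [Q.Normal] [Φ.Normal]
    (S : Sit π Q Φ) {R : Subgroup X} [R.Normal] (hlt : R < Φ)
    (hmax : ∀ M : Subgroup X, M.Normal → R ≤ M → M < Φ → M ≤ R) : R = ⊥ := by
  haveI : (Q.map (QuotientGroup.mk' R)).Normal := Subgroup.Normal.map ‹_› _ (QuotientGroup.mk'_surjective R)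
  haveI : (Φ.map (QuotientGroup.mk' R)).Normal := Subgroup.Normal.map ‹_› _ (QuotientGroup.mk'_surjective R)
  obtain ⟨hne, hmin⟩ := minimal_of_maximal hlt hmax
  obtain ⟨a', w, hw, hw1, hww, hwc, hΦw, -, haQ', ha', hpair', -, hspan'⟩ :=
    (S.quotient R hlt.le).minimal_pack hne hmin
  have hl : ∀ i, ∃ q ∈ Q, (q : X ⧸ R) = a' i := fun i => mem_map.1 (haQ' i)
  choose a haQ hal using hl
  have hai : ∀ i, a i * a i ∈ R := fun i =>
    (QuotientGroup.eq_one_iff _).1 (by rw [QuotientGroup.mk_mul, hal, ha'])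
  have haij : ∀ i j, i ≠ j → a i * a j * (a i * a j) ∉ R := fun i j hij h => hw1 (by
    rw [← hpair' i j hij, ← hal, ← hal, ← QuotientGroup.mk_mul, ← QuotientGroup.mk_mul]
    exact (QuotientGroup.eq_one_iff _).2 h)
  have hidx : ∀ x ∈ Φ, x ∉ R → ∀ y ∈ Φ, y ∉ R → x⁻¹ * y ∈ R := by
    have hval : ∀ x ∈ Φ, x ∉ R → (x : X ⧸ R) = w := fun x hx hxR =>
      (mem_zpowers_two hww (hΦw ▸ mem_map_of_mem (QuotientGroup.mk' R) hx)).resolve_left
        fun e => hxR ((QuotientGroup.eq_one_iff x).1 e)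
    exact fun x hx hxR y hy hyR => QuotientGroup.eq.1 ((hval x hx hxR).trans (hval y hy hyR).symm)
  have hsw : ∀ i j, i ≠ j → a' i * a' j = w * (a' j * a' i) := fun i j hij => by
    rw [← hpair' i j hij, mul_assoc, show a' i * a' j * (a' j * a' i) = a' i * (a' j * a' j) * a' i by group,
      ha', mul_one, ha', mul_one]
  have htriple : ∀ i j k, j ≠ i → k ≠ i → (a j * a k * a i)⁻¹ * (a i * (a j * a k)) ∈ R := by
    intro i j k hji hki
    refine QuotientGroup.eq.1 ?_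
    simp only [QuotientGroup.mk_mul, hal]
    calc a' j * a' k * a' i = a' j * (w * (a' i * a' k)) := by rw [mul_assoc, hsw k i hki]
      _ = w * (a' j * a' i * a' k) := by rw [← mul_assoc (a' j), ← hwc, mul_assoc w, mul_assoc (a' j)]
      _ = w * w * (a' i * a' j * a' k) := by rw [hsw j i hji, mul_assoc w (a' i * a' j), ← mul_assoc w w]
      _ = a' i * (a' j * a' k) := by rw [hww, one_mul, mul_assoc]
  have hgen : Q ≤ closure (Set.range a) ⊔ Φ := by
    intro q hq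
    have hr : ∀ {x : X}, (x : X ⧸ R) ∈ Φ.map (QuotientGroup.mk' R) → x ∈ closure (Set.range a) ⊔ Φ :=
      fun hx => mem_sup_right ((mk_mem_map hlt.le).1 hx)
    have hm : ∀ i, a i ∈ closure (Set.range a) ⊔ Φ := fun i => mem_sup_left (Subgroup.subset_closure ⟨i, rfl⟩)
    rcases hspan' (q : X ⧸ R) (mem_map_of_mem _ hq) with h | ⟨i, h⟩ | ⟨i, j, -, h⟩
    · exact hr h
    · rw [← hal, ← QuotientGroup.mk_inv, ← QuotientGroup.mk_mul] at h
      have := mul_mem (hm i) (inv_mem (hr h))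
      rwa [mul_inv_rev, inv_inv, ← mul_assoc, mul_inv_cancel, one_mul] at this
    · rw [← hal, ← hal, ← QuotientGroup.mk_inv, ← QuotientGroup.mk_mul, ← QuotientGroup.mk_mul] at h
      have := mul_mem (mul_mem (hm i) (hm j)) (inv_mem (hr h))
      rwa [mul_inv_rev, inv_inv, ← mul_assoc, mul_inv_cancel, one_mul] at this
  -- the next layer
  by_contra hR
  obtain ⟨R', ⟨hR'n, hR'lt⟩, hR'max⟩ := (Set.toFinite {M : Subgroup X | M.Normal ∧ M < R}).exists_maximal
    ⟨⊥, inferInstance, bot_lt_iff_ne_bot.2 hR⟩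
  haveI := hR'n
  set mk := QuotientGroup.mk' R' with hmk
  haveI : (Q.map mk).Normal := Subgroup.Normal.map ‹_› _ (QuotientGroup.mk'_surjective R')
  haveI : (Φ.map mk).Normal := Subgroup.Normal.map ‹_› _ (QuotientGroup.mk'_surjective R')
  haveI : (R.map mk).Normal := Subgroup.Normal.map ‹_› _ (QuotientGroup.mk'_surjective R')
  obtain ⟨hRne, hRmin⟩ := minimal_of_maximal hR'lt fun M hM h1 h2 => hR'max ⟨hM, h2⟩ h1
  have S2 := S.quotient R' (hR'lt.le.trans hlt.le)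
  obtain ⟨hRc, hR2⟩ := minimal_layer S2.pgroup (map_mono (hlt.le.trans S.le)) hRne hRmin
  set b : Fin 5 → X ⧸ R' := fun i => mk (a i) with hb
  have hbQ : ∀ i, b i ∈ Q.map mk := fun i => mem_map_of_mem _ (haQ i)
  have hd : ∀ j k, j ≠ k → b j * b k * (b j * b k) ∈ Φ.map mk ∧ b j * b k * (b j * b k) ∉ R.map mk := by
    intro j k hjk
    simp only [hb, ← map_mul]
    exact ⟨mem_map_of_mem _ (S.sq _ (mul_mem (haQ j) (haQ k))),
      fun h => haij j k hjk ((mk_mem_map hR'lt.le).1 h)⟩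
  have hidx2 : ∀ p ∈ Φ.map mk, p ∉ R.map mk → ∀ p' ∈ Φ.map mk, p' ∉ R.map mk → p⁻¹ * p' ∈ R.map mk := by
    rintro _ ⟨x, hx, rfl⟩ hxR _ ⟨y, hy, rfl⟩ hyR
    rw [← map_inv, ← map_mul]
    exact mem_map_of_mem _ (hidx x hx (fun h => hxR (mem_map_of_mem _ h)) y hy
      (fun h => hyR (mem_map_of_mem _ h)))
  have hΦQ : Φ.map mk ≤ Q.map mk := map_mono S.le
  have hbcomm : ∀ i, ∀ p ∈ Φ.map mk, p * b i = b i * p := by
    intro i p hp
    by_cases hpR : p ∈ R.map mk
    · exact hRc p hpR _ (hbQ i)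
    obtain ⟨j, k, hji, hki, hjk⟩ : ∃ j k : Fin 5, j ≠ i ∧ k ≠ i ∧ j ≠ k := by
      revert i; decide
    set c := b j * b k with hc
    have hcQ : c ∈ Q.map mk := mul_mem (hbQ j) (hbQ k)
    set r := (c * b i)⁻¹ * (b i * c) with hr
    have hrR : r ∈ R.map mk := by
      rw [hr, hc]
      simp only [hb, ← map_mul, ← map_inv]
      exact mem_map_of_mem _ (htriple i j k hji hki)
    have e1 : b i * c = c * b i * r := by rw [hr]; group
    have e2 : c * c * b i = b i * (c * c) :=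
      (calc b i * (c * c) = c * b i * (r * c) := by rw [← mul_assoc, e1, mul_assoc]
        _ = c * (b i * c) * r := by rw [hRc r hrR c hcQ]; group
        _ = c * c * b i * (r * r) := by rw [e1]; group
        _ = c * c * b i := by rw [hR2 r hrR, mul_one]).symm
    have hz := hidx2 _ (hd j k hjk).1 (hd j k hjk).2 p hp hpR
    calc p * b i = c * c * (((c * c)⁻¹ * p) * b i) := by group
      _ = c * c * b i * ((c * c)⁻¹ * p) := by rw [hRc _ hz _ (hbQ i), mul_assoc (c * c) (b i)]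
      _ = b i * p := by rw [e2]; group
  have hΦc : ∀ p ∈ Φ.map mk, ∀ q ∈ Q.map mk, p * q = q * p := by
    intro p hp q hq
    have hle : Q.map mk ≤ centralizer {p} := by
      refine (map_mono hgen).trans ?_
      rw [Subgroup.map_sup, MonoidHom.map_closure, sup_le_iff, closure_le]
      refine ⟨?_, fun p' hp' => mem_centralizer_singleton_iff.2 ?_⟩
      · rintro _ ⟨_, ⟨i, rfl⟩, rfl⟩
        exact mem_centralizer_singleton_iff.2 (hbcomm i p hp).symm
      by_cases hp'R : p' ∈ R.map mk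
      · exact hRc p' hp'R p (hΦQ hp)
      by_cases hpR : p ∈ R.map mk
      · exact (hRc p hpR p' (hΦQ hp')).symm
      have hz := hidx2 p hp hpR p' hp' hp'R
      calc p' * p = p * ((p⁻¹ * p') * p) := by group
        _ = p * (p * (p⁻¹ * p')) := by rw [hRc _ hz p (hΦQ hp)]
        _ = p * p' := by group
    exact (mem_centralizer_singleton_iff.1 (hle hq)).symm
  have hΦ2 : ∀ p ∈ Φ.map mk, p * p = 1 := by
    set u := b 0 * b 1 * (b 0)⁻¹ * (b 1)⁻¹ with hu
    have hu' : u = mk (a 0 * a 1 * (a 0)⁻¹ * (a 1)⁻¹) := by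
      simp only [hu, hb, map_mul, map_inv]
    have huΦ : u ∈ Φ.map mk := hu' ▸ mem_map_of_mem _ (comm_mem_of_sq S.sq (haQ 0) (haQ 1))
    have huR : u ∉ R.map mk := by
      rw [hu']
      intro h
      refine haij 0 1 (by decide) ?_
      have h1 := mul_mem ((mk_mem_map hR'lt.le).1 h) (mul_mem
        ((inferInstance : R.Normal).conj_mem _ (hai 0) (a 1)) (hai 1))
      rwa [show a 0 * a 1 * (a 0)⁻¹ * (a 1)⁻¹ * (a 1 * (a 0 * a 0) * (a 1)⁻¹ * (a 1 * a 1)) =
        a 0 * a 1 * (a 0 * a 1) by group] at h1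
    have h00 : b 0 * b 0 ∈ R.map mk := by
      rw [hb]
      simp only [← map_mul]
      exact mem_map_of_mem _ (hai 0)
    have e1 : b 0 * b 1 = u * b 1 * b 0 := by rw [hu]; group
    have e2 : b 0 * b 0 * b 1 = u * u * (b 0 * b 0 * b 1) :=
      calc b 0 * b 0 * b 1 = b 0 * u * (b 1 * b 0) := by rw [mul_assoc, e1]; group
        _ = u * (b 0 * b 1) * b 0 := by rw [← hΦc u huΦ _ (hbQ 0)]; group
        _ = u * u * (b 1 * (b 0 * b 0)) := by rw [e1]; group
        _ = u * u * (b 0 * b 0 * b 1) := by rw [hRc _ h00 _ (hbQ 1)]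
    have huu : u * u = 1 := mul_eq_right.1 e2.symm
    intro p hp
    by_cases hpR : p ∈ R.map mk
    · exact hR2 p hpR
    have hz := hidx2 u huΦ huR p hp hpR
    rw [show p * p = u * ((u⁻¹ * p) * u) * (u⁻¹ * p) by group, hRc _ hz u (hΦQ huΦ),
      show u * (u * (u⁻¹ * p)) * (u⁻¹ * p) = u * u * ((u⁻¹ * p) * (u⁻¹ * p)) by group,
      huu, hR2 _ hz, one_mul]
  obtain ⟨hcen, -⟩ := S2.layer_central hΦc hΦ2
  obtain ⟨hd1, hd2⟩ := hd 0 1 (by decide)
  rcases S2.frame hcen hΦ2 with h | ⟨-, v, hv, hv1, -, -, -, -, hval, -⟩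
  · exact hd2 (by rw [h _ (mul_mem (hbQ 0) (hbQ 1))]; exact one_mem _)
  obtain ⟨r, hr, hr1⟩ : ∃ r ∈ R.map mk, r ≠ 1 := by
    by_contra h
    push Not at h
    exact hRne (eq_bot_iff.2 fun r hr => mem_bot.2 (h r hr))
  have hle : Φ.map mk ≤ zpowers v := S2.gen _ fun q hq => by
    rcases hval q hq with h | h <;> rw [h]
    · exact one_mem _
    · exact mem_zpowers v
  have hrv := (mem_zpowers_two (hΦ2 v hv) (hle (map_mono hlt.le hr))).resolve_left hr1
  exact hd2 ((zpowers_le.2 (hrv ▸ hr)) (hle hd1))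

/-- The structure of the radical. -/
theorem radical_structure (Q : Subgroup X) [Q.Normal] (hQ : IsPGroup 2 Q)
    (hC : centralizer (Q : Set X) ≤ Q) (h4 : Cfsg.SectionalPRankLE 2 4 X)
    (π : X →* alternatingGroup (Fin 5)) (hπ : Function.Surjective π) (hker : π.ker = Q) :
    (Cfsg.IsElementaryAbelian 2 Q ∧ Nat.card Q = 16) ∨
      (Nat.card Q = 32 ∧ ∃ A B : Subgroup Q, Nonempty (↥A ≃* QuaternionGroup 2) ∧
        Nonempty (↥B ≃* DihedralGroup 4) ∧ (∀ a ∈ A, ∀ b ∈ B, a * b = b * a) ∧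
          A ⊔ B = ⊤ ∧ A ⊓ B = center Q) := by
  set Φ := (frattini Q).map Q.subtype with hΦdef
  haveI : Φ.Normal := ConjAct.normal_of_characteristic_of_normal
  have S : Sit π Q Φ := sit_frattini hQ hC h4 hπ hker
  by_cases hΦ : Φ = ⊥
  · left
    have h1 : ∀ q ∈ Q, q * q = 1 := fun q hq => mem_bot.1 (hΦ ▸ S.sq q hq)
    have hc : ∀ z ∈ Q, ∀ q ∈ Q, z * q = q * z := fun z hz q hq => by
      have := comm_mem_of_sq (M := ⊥) (fun x hx => mem_bot.2 (h1 x hx)) hz hq
      rwa [mem_bot, mul_inv_eq_one, mul_inv_eq_iff_eq_mul] at this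
    refine ⟨⟨⟨⟨fun a b => Subtype.ext (hc a a.2 b b.2)⟩⟩, fun q hq => by rw [pow_two]; exact h1 q hq⟩, ?_⟩
    obtain ⟨t, ht⟩ := hπ invol
    refine (act_facts h4 hπ hker Q le_rfl hc h1 (fun h => ?_) ht).1
    obtain ⟨y, q, hq, hn⟩ := S.faith
    exact hn (by rw [mem_center_iff.1 (h hq) y, mul_inv_cancel_right, mul_inv_cancel]; exact one_mem _)
  right
  obtain ⟨R, ⟨hRn, hRlt⟩, hRmax⟩ := (Set.toFinite {M : Subgroup X | M.Normal ∧ M < Φ}).exists_maximal
    ⟨⊥, inferInstance, bot_lt_iff_ne_bot.2 hΦ⟩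
  haveI := hRn
  have hR := S.bot_of_maximal hRlt fun M hM h1 h2 => hRmax ⟨hM, h2⟩ h1
  subst hR
  obtain ⟨a, w, hw, hw1, hww, hwc, hΦw, h32, haQ, ha, hpair, hprod, hspan⟩ :=
    S.minimal_pack hΦ fun M hM hle hne => (eq_or_lt_of_le hle).resolve_right fun hlt =>
      hne (eq_bot_iff.2 (hRmax ⟨hM, hlt⟩ bot_le))
  set z : Q := ⟨w, S.le hw⟩ with hz
  have hmem : ∀ {x : Q}, (x : X) ∈ Φ → x ∈ zpowers z := fun {x} hx => by
    rcases mem_zpowers_two hww (hΦw.ge hx) with h | h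
    · rw [show x = 1 from Subtype.ext h]; exact one_mem _
    · rw [show x = z from Subtype.ext h]; exact mem_zpowers z
  refine ⟨h32, central_product (z := z) (fun i => ⟨a i, haQ i⟩) (fun p => Subtype.ext (hwc p))
    (Subtype.ext hww) (fun e => hw1 (congrArg Subtype.val e)) (fun i => Subtype.ext (ha i))
    (fun i j hij => Subtype.ext (hpair i j hij)) (hmem hprod) fun p => ?_⟩
  rcases hspan p p.2 with h | ⟨i, h⟩ | ⟨i, j, hij, h⟩
  · exact Or.inl (hmem h)
  · exact Or.inr (Or.inl ⟨i, hmem h⟩)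
  · exact Or.inr (Or.inr ⟨i, j, hij, hmem h⟩)

end CfsgLib.PGroup.RadicalFive
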