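import Cfsg.Agent.Lib.PGroup.RadicalFive.Layer
import Cfsg.Agent.Lib.PGroup.RadicalFive.Forms
import Cfsg.Agent.Lib.PGroup.FrattiniLe
import Cfsg.Agent.Lib.Coprime.Solvable
import Cfsg.Agent.Lib.Fusion.System.RankThree.OverQuotient
import Mathlib.GroupTheory.GroupAction.ConjAct

/-!
# A normal 2-subgroup with quotient the alternating group of degree five: one layer

`Sit` packages a normal 2-subgroup `Q` with quotient `Aⅅ` acting nontrivially on `Q/Φ`, `Φ` being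
generated by squares.
-/

set_option autoImplicit false
set_option linter.unusedSectionVars false
set_option linter.style.haveILetI false

open Subgroup

namespace CfsgLib.PGroup.RadicalFive

universe u

variable {Y : Type u} [Group Y]

theorem comm_mem_of_sq {Q M : Subgroup Y} (h : ∀ q ∈ Q, q * q ∈ M) {a b : Y} (ha : a ∈ Q)
    (hb : b ∈ Q) : a * b * a⁻¹ * b⁻¹ ∈ M := by
  rw [show a * b * a⁻¹ * b⁻¹ = (a * b) * (a * b) * ((b⁻¹ * a⁻¹ * b) * (b⁻¹ * a⁻¹ * b)) * (b⁻¹ * b⁻¹) by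
    group]
  exact mul_mem (mul_mem (h _ (mul_mem ha hb)) (h _ (mul_mem (mul_mem (inv_mem hb) (inv_mem ha)) hb)))
    (h _ (inv_mem hb))

theorem mk_mem_map {N R : Subgroup Y} [N.Normal] (h : N ≤ R) {x : Y} :
    (x : Y ⧸ N) ∈ R.map (QuotientGroup.mk' N) ↔ x ∈ R := by
  show x ∈ (R.map (QuotientGroup.mk' N)).comap (QuotientGroup.mk' N) ↔ _
  rw [comap_map_eq, QuotientGroup.ker_mk', sup_eq_left.2 h]

variable [Finite Y]

theorem card_comap_mk (Λ : Subgroup Y) [Λ.Normal] (S : Subgroup (Y ⧸ Λ)) :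
    Nat.card (S.comap (QuotientGroup.mk' Λ)) = Nat.card Λ * Nat.card S := by
  have h1 := (S.comap (QuotientGroup.mk' Λ)).card_mul_index
  rw [index_comap_of_surjective _ (QuotientGroup.mk'_surjective Λ), Λ.card_eq_card_quotient_mul_card_subgroup,
    ← S.card_mul_index] at h1
  refine Nat.eq_of_mul_eq_mul_right (Nat.pos_of_ne_zero S.index_ne_zero_of_finite) (h1.trans ?_)
  ring

theorem card_le_sixteen (h4 : Cfsg.SectionalPRankLE 2 4 Y) {Λ : Subgroup Y}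
    (hc : ∀ a ∈ Λ, ∀ b ∈ Λ, a * b = b * a) (h2 : ∀ a ∈ Λ, a * a = 1) : Nat.card Λ ≤ 16 := by
  have h := h4 Λ ⊥ ⊤ ⟨⟨fun a b => Subtype.ext (by
    obtain ⟨x, hx⟩ := QuotientGroup.mk_surjective (a : ↥Λ ⧸ (⊥ : Subgroup Λ))
    obtain ⟨y, hy⟩ := QuotientGroup.mk_surjective (b : ↥Λ ⧸ (⊥ : Subgroup Λ))
    show (a : ↥Λ ⧸ (⊥ : Subgroup Λ)) * b = b * a
    rw [← hx, ← hy, ← QuotientGroup.mk_mul, ← QuotientGroup.mk_mul]
    exact congrArg _ (Subtype.ext (hc x x.2 y y.2)))⟩⟩ (fun a _ => by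
    obtain ⟨x, rfl⟩ := QuotientGroup.mk_surjective a
    rw [← QuotientGroup.mk_pow, sq, show x * x = 1 from Subtype.ext (h2 x x.2), QuotientGroup.mk_one])
  rwa [card_top, Nat.card_congr QuotientGroup.quotientBot.toEquiv] at h

/-- A nontrivial normal subgroup, minimal such, of a normal 2-subgroup is central in it and of
exponent two. -/
theorem minimal_layer {Q N : Subgroup Y} [Q.Normal] [N.Normal] (hQ : IsPGroup 2 Q) (hNQ : N ≤ Q)
    (hN : N ≠ ⊥) (hmin : ∀ M : Subgroup Y, M.Normal → M ≤ N → M ≠ ⊥ → M = N) :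
    (∀ z ∈ N, ∀ q ∈ Q, z * q = q * z) ∧ ∀ z ∈ N, z * z = 1 := by
  haveI : Fact (Nat.Prime 2) := ⟨Nat.prime_two⟩
  have hne : N ⊓ centralizer (Q : Set Y) ≠ ⊥ := by
    haveI : Nontrivial (N.subgroupOf Q) := (nontrivial_iff_ne_bot _).2 (by
      rwa [Ne, subgroupOf_eq_bot, disjoint_iff, inf_of_le_left hNQ])
    haveI := hQ.isNilpotent
    have h := CfsgLib.Coprime.nilpotent_inf_center_ne_bot (N.subgroupOf Q) ((nontrivial_iff_ne_bot _).1 ‹_›)
    intro e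
    refine h (eq_bot_iff.2 fun x hx => ?_)
    obtain ⟨hx1, hx2⟩ := mem_inf.1 hx
    have hxm : (x : Y) ∈ N ⊓ centralizer (Q : Set Y) := ⟨mem_subgroupOf.1 hx1,
      mem_centralizer_iff.2 fun q hq => congrArg Subtype.val (mem_center_iff.1 hx2 ⟨q, hq⟩)⟩
    rw [e, mem_bot] at hxm
    exact mem_bot.2 (Subtype.ext hxm)
  have hcen : N ⊓ centralizer (Q : Set Y) = N := hmin _ inferInstance inf_le_left hne
  have hc : ∀ z ∈ N, ∀ q ∈ Q, z * q = q * z := fun z hz q hq => by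
    rw [← hcen] at hz
    exact (mem_centralizer_iff.1 hz.2 q hq).symm
  refine ⟨hc, ?_⟩
  let T : Subgroup Y :=
    { carrier := {z | z ∈ N ∧ z * z = 1}
      one_mem' := ⟨one_mem N, one_mul 1⟩
      mul_mem' := fun {a b} ha hb => ⟨mul_mem ha.1 hb.1, by
        rw [mul_assoc, ← mul_assoc b, hc b hb.1 a (hNQ ha.1), mul_assoc, hb.2, mul_one, ha.2]⟩
      inv_mem' := fun {a} ha => ⟨inv_mem ha.1, by rw [← mul_inv_rev, ha.2, inv_one]⟩ }
  have hTn : T.Normal := ⟨fun z hz g => ⟨(inferInstance : N.Normal).conj_mem z hz.1 g, by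
    rw [show g * z * g⁻¹ * (g * z * g⁻¹) = g * (z * z) * g⁻¹ by group, hz.2]; group⟩⟩
  have hT : T ≠ ⊥ := by
    obtain ⟨k, hk⟩ := IsPGroup.iff_card.1 (hQ.to_le hNQ)
    haveI : Nontrivial N := (nontrivial_iff_ne_bot _).2 hN
    have h1 := (Finite.one_lt_card : 1 < Nat.card N)
    obtain ⟨x, hx⟩ := exists_prime_orderOf_dvd_card' (G := N) 2 (by
      rw [hk] at h1 ⊢
      exact dvd_pow_self 2 (by rintro rfl; simp at h1))
    intro e
    have hm : (x : Y) ∈ T := ⟨x.2, by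
      have := congrArg Subtype.val (hx ▸ pow_orderOf_eq_one x)
      simpa [sq] using this⟩
    rw [e, mem_bot] at hm
    rw [show x = 1 from Subtype.ext hm, orderOf_one] at hx
    exact absurd hx (by norm_num)
  intro z hz
  rw [← hmin T hTn (fun z hz => hz.1) hT] at hz
  exact hz.2

/-- The situation. -/
structure Sit (π : Y →* alternatingGroup (Fin 5)) (Q Φ : Subgroup Y) : Prop where
  h4 : Cfsg.SectionalPRankLE 2 4 Y
  surj : Function.Surjective π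
  ker : π.ker = Q
  pgroup : IsPGroup 2 Q
  le : Φ ≤ Q
  sq : ∀ q ∈ Q, q * q ∈ Φ
  faith : ∃ y : Y, ∃ q ∈ Q, y * q * y⁻¹ * q⁻¹ ∉ Φ
  gen : ∀ M : Subgroup Y, (∀ q ∈ Q, q * q ∈ M) → Φ ≤ M

theorem Sit.quotient {π : Y →* alternatingGroup (Fin 5)} {Q Φ : Subgroup Y} (S : Sit π Q Φ)
    (R : Subgroup Y) [R.Normal] (hR : R ≤ Φ) :
    Sit (QuotientGroup.lift R π (hR.trans (S.le.trans S.ker.ge))) (Q.map (QuotientGroup.mk' R))
      (Φ.map (QuotientGroup.mk' R)) where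
  h4 := CfsgLib.Fusion.RankThree.sectional_quotient S.h4 R
  surj := fun g => by
    obtain ⟨y, hy⟩ := S.surj g
    exact ⟨(y : Y ⧸ R), hy⟩
  ker := by
    rw [QuotientGroup.ker_lift, S.ker]
  pgroup := S.pgroup.map _
  le := map_mono S.le
  sq := by
    rintro _ ⟨q, hq, rfl⟩
    exact ⟨q * q, S.sq q hq, map_mul _ _ _⟩
  faith := by
    obtain ⟨y, q, hq, h⟩ := S.faith
    exact ⟨y, q, mem_map_of_mem _ hq, fun hm => h ((mk_mem_map hR).1 hm)⟩
  gen := fun M hM => map_le_iff_le_comap.2 (S.gen _ fun q hq => by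
    show ((q * q : Y) : Y ⧸ R) ∈ M
    exact hM _ (mem_map_of_mem _ hq))

variable {π : Y →* alternatingGroup (Fin 5)} {Q : Subgroup Y}

/-- The action of the quotient on a normal subgroup centralised by the kernel. -/
theorem exists_act (hπ : Function.Surjective π) (hker : π.ker = Q) (Λ : Subgroup Y) [Λ.Normal]
    (hc : ∀ z ∈ Λ, ∀ q ∈ Q, z * q = q * z) :
    ∃ ρ : alternatingGroup (Fin 5) →* MulAut Λ, (∀ y (z : Λ), (ρ (π y) z : Y) = y * z * y⁻¹) ∧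
      (¬ Λ ≤ center Y → Function.Injective ρ) := by
  have hk : π.ker ≤ (MulAut.conjNormal (H := Λ)).ker := fun q hq => by
    refine MonoidHom.mem_ker.2 (MulEquiv.ext fun z => Subtype.ext ?_)
    rw [MulAut.conjNormal_apply, ← hc z z.2 q (hker ▸ hq), mul_inv_cancel_right]
    rfl
  obtain ⟨ρ, hρ⟩ : ∃ ρ : alternatingGroup (Fin 5) →* MulAut Λ, ∀ y, ρ (π y) = MulAut.conjNormal y :=
    ⟨MonoidHom.liftOfSurjective π hπ ⟨MulAut.conjNormal, hk⟩, fun y =>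
      MonoidHom.liftOfRightInverse_comp_apply π _ _ ⟨MulAut.conjNormal, hk⟩ y⟩
  have happ : ∀ y (z : Λ), (ρ (π y) z : Y) = y * z * y⁻¹ := fun y z => by
    rw [hρ, MulAut.conjNormal_apply]
  refine ⟨ρ, happ, fun hne => (MonoidHom.ker_eq_bot_iff ρ).1 ?_⟩
  refine (IsSimpleGroup.eq_bot_or_eq_top_of_normal ρ.ker inferInstance).resolve_right fun htop =>
    hne fun z hz => mem_center_iff.2 fun y => ?_
  have h := happ y ⟨z, hz⟩
  rw [show ρ (π y) = 1 from MonoidHom.mem_ker.1 (htop ▸ mem_top _)] at h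
  exact (mul_inv_eq_iff_eq_mul.1 h.symm)

theorem act_facts (h4 : Cfsg.SectionalPRankLE 2 4 Y) (hπ : Function.Surjective π) (hker : π.ker = Q)
    (Λ : Subgroup Y) [Λ.Normal] (hΛQ : Λ ≤ Q) (hc : ∀ z ∈ Λ, ∀ q ∈ Q, z * q = q * z)
    (hΛ2 : ∀ z ∈ Λ, z * z = 1) (hne : ¬ Λ ≤ center Y) {t : Y} (ht : π t = invol) :
    Nat.card Λ = 16 ∧ Nat.card (Λ ⊓ centralizer ({t} : Set Y) : Subgroup Y) = 4 ∧
      ∀ z ∈ Λ, t * z = z * t → ∃ u ∈ Λ, u⁻¹ * (t * u * t⁻¹) = z := by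
  letI : CommGroup Λ := { (inferInstance : Group Λ) with
    mul_comm := fun a b => Subtype.ext (hc a a.2 b (hΛQ b.2)) }
  obtain ⟨ρ, happ, hinj⟩ := exists_act hπ hker Λ hc
  have h2 : ∀ v : Λ, v * v = 1 := fun v => Subtype.ext (hΛ2 v v.2)
  have hV := card_le_sixteen h4 (fun a ha b hb => hc a ha b (hΛQ hb)) hΛ2
  have h5 : ρ five ^ 5 = 1 := by rw [← map_pow, five_pow, map_one]
  have hne5 : ρ five ≠ 1 := fun e => five_ne_one (hinj hne (by rw [e, map_one]))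
  have hinv : ρ invol * ρ five * (ρ invol)⁻¹ * ρ five = 1 := by
    rw [← map_inv, ← map_mul, ← map_mul, ← map_mul, invol_inverts, map_one]
  obtain ⟨h16, -, -⟩ := five_facts h2 hV h5 hne5
  obtain ⟨hfour, hcov⟩ := invol_facts h2 hV h5 hne5 (by rw [← map_mul, invol_sq, map_one]) hinv
  have hmem : ∀ v : Λ, v ∈ fixSub (ρ invol) ↔ t * v = v * t := fun v => by
    rw [mem_fixSub, ← ht, ← mul_inv_eq_iff_eq_mul, ← happ t v]
    exact Subtype.ext_iff
  refine ⟨h16, ?_, fun z hz htz => ?_⟩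
  · rw [← hfour]
    refine Nat.card_congr
      { toFun := fun v => ⟨⟨v.1, v.2.1⟩, (hmem _).2 (mem_centralizer_singleton_iff.1 v.2.2).symm⟩
        invFun := fun v => ⟨v.1.1, v.1.2, mem_centralizer_singleton_iff.2 ((hmem _).1 v.2).symm⟩
        left_inv := fun v => rfl
        right_inv := fun v => rfl }
  · obtain ⟨u, hu⟩ := hcov ⟨z, hz⟩ ((hmem _).2 htz)
    refine ⟨u, u.2, ?_⟩
    rw [← happ t u, ht]
    exact congrArg Subtype.val hu

variable {Φ : Subgroup Y}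

theorem Sit.not_central [Φ.Normal] (S : Sit π Q Φ) :
    ¬ Q.map (QuotientGroup.mk' Φ) ≤ center (Y ⧸ Φ) := by
  intro h
  obtain ⟨y, q, hq, hm⟩ := S.faith
  have h1 := mem_center_iff.1 (h (mem_map_of_mem _ hq)) (y : Y ⧸ Φ)
  apply hm
  rw [← QuotientGroup.eq_one_iff, QuotientGroup.mk_mul, QuotientGroup.mk_mul, QuotientGroup.mk_mul]
  rw [show (y : Y ⧸ Φ) * q = q * y from h1, QuotientGroup.mk_inv, mul_inv_cancel_right,
    QuotientGroup.mk_inv, mul_inv_cancel]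

theorem Sit.quot_layer [Φ.Normal] (S : Sit π Q Φ) :
    (∀ z ∈ Q.map (QuotientGroup.mk' Φ), ∀ q ∈ Q.map (QuotientGroup.mk' Φ), z * q = q * z) ∧
      ∀ z ∈ Q.map (QuotientGroup.mk' Φ), z * z = 1 := by
  constructor
  · rintro _ ⟨a, ha, rfl⟩ _ ⟨b, hb, rfl⟩
    rw [← mul_inv_eq_iff_eq_mul, ← mul_inv_eq_one, ← map_inv, ← map_inv, ← map_mul, ← map_mul,
      ← map_mul]
    exact (QuotientGroup.eq_one_iff _).2 (comm_mem_of_sq S.sq ha hb)
  · rintro _ ⟨a, ha, rfl⟩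
    rw [← map_mul]
    exact (QuotientGroup.eq_one_iff _).2 (S.sq a ha)

/-- A central elementary layer below is centralised by everything. -/
theorem Sit.layer_central [Q.Normal] [Φ.Normal] (S : Sit π Q Φ)
    (hc : ∀ z ∈ Φ, ∀ q ∈ Q, z * q = q * z) (hΦ2 : ∀ z ∈ Φ, z * z = 1) :
    Φ ≤ center Y ∧ Nat.card Q = 16 * Nat.card Φ := by
  obtain ⟨t, ht⟩ := S.surj invol
  let π' : Y ⧸ Φ →* alternatingGroup (Fin 5) := QuotientGroup.lift Φ π (S.le.trans S.ker.ge)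
  have hk' : π'.ker = Q.map (QuotientGroup.mk' Φ) := by rw [QuotientGroup.ker_lift, S.ker]
  have hs' : Function.Surjective π' := fun g => by
    obtain ⟨y, hy⟩ := S.surj g
    exact ⟨(y : Y ⧸ Φ), hy⟩
  obtain ⟨hcV, h2V⟩ := S.quot_layer
  obtain ⟨h16, hfour, hcov⟩ := act_facts (CfsgLib.Fusion.RankThree.sectional_quotient S.h4 Φ)
    hs' hk' (Q.map (QuotientGroup.mk' Φ)) le_rfl hcV h2V S.not_central
    (t := (t : Y ⧸ Φ)) ht
  have hQcomap : (Q.map (QuotientGroup.mk' Φ)).comap (QuotientGroup.mk' Φ) = Q := by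
    rw [comap_map_eq, QuotientGroup.ker_mk', sup_eq_left.2 S.le]
  refine ⟨?_, by rw [← hQcomap, card_comap_mk, h16, mul_comm]⟩
  by_contra hne
  obtain ⟨h16', hfour', -⟩ := act_facts S.h4 S.surj S.ker Φ S.le hc hΦ2 hne ht
  have hC : Nat.card (modFix Q Φ t) = Nat.card Φ * 4 := by
    rw [← hfour, ← card_comap_mk, comap_inf, hQcomap]
    rfl
  have htQ : t ∉ Q := fun h => invol_ne_one (by
    rw [← ht]; exact MonoidHom.mem_ker.1 (S.ker.ge h))
  refine false_of_layer S.h4 Q Φ S.le hc hΦ2 S.sq t ?_ htQ (fun q hq => ?_) (by omega)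
    (by rw [hfour', h16'])
  · rw [← S.ker, MonoidHom.mem_ker, map_mul, ht, invol_sq]
  · obtain ⟨_, ⟨v, hv, rfl⟩, hv'⟩ := hcov (q : Y ⧸ Φ) (mem_map_of_mem _ hq.1) (by
      exact (mem_centralizer_singleton_iff.1 (show (q : Y ⧸ Φ) ∈ centralizer {(t : Y ⧸ Φ)} from hq.2)).symm)
    refine ⟨v, hv, (QuotientGroup.eq (s := Φ)).1 ?_⟩
    rw [QuotientGroup.mk_mul, QuotientGroup.mk_mul, QuotientGroup.mk_mul, QuotientGroup.mk_inv,
      QuotientGroup.mk_inv]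
    exact hv'

/-- The squaring map of the layer. -/
theorem Sit.frame [Q.Normal] [Φ.Normal] (S : Sit π Q Φ) (hcen : Φ ≤ center Y)
    (hΦ2 : ∀ z ∈ Φ, z * z = 1) :
    (∀ q ∈ Q, q * q = 1) ∨ ∃ (a : Fin 5 → Y) (w : Y), w ∈ Φ ∧ w ≠ 1 ∧ (∀ i, a i ∈ Q) ∧
      (∀ i, a i * a i = 1) ∧ (∀ i j, i ≠ j → a i * a j * (a i * a j) = w) ∧
      a 0 * a 1 * a 2 * a 3 * a 4 ∈ Φ ∧ (∀ q ∈ Q, q * q = 1 ∨ q * q = w) ∧
      ∀ q ∈ Q, q ∈ Φ ∨ (∃ i, q⁻¹ * a i ∈ Φ) ∨ ∃ i j, i ≠ j ∧ q⁻¹ * (a i * a j) ∈ Φ := by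
  let π' : Y ⧸ Φ →* alternatingGroup (Fin 5) := QuotientGroup.lift Φ π (S.le.trans S.ker.ge)
  have hk' : π'.ker = Q.map (QuotientGroup.mk' Φ) := by rw [QuotientGroup.ker_lift, S.ker]
  have hs' : Function.Surjective π' := fun g => by
    obtain ⟨y, hy⟩ := S.surj g
    exact ⟨(y : Y ⧸ Φ), hy⟩
  obtain ⟨hcV, h2V⟩ := S.quot_layer
  set V := Q.map (QuotientGroup.mk' Φ) with hV
  letI : CommGroup V := { (inferInstance : Group V) with
    mul_comm := fun a b => Subtype.ext (hcV a a.2 b b.2) }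
  letI : CommGroup Φ := { (inferInstance : Group Φ) with
    mul_comm := fun a b => Subtype.ext (mem_center_iff.1 (hcen b.2) a) }
  obtain ⟨ρ, happ, hinj⟩ := exists_act hs' hk' V hcV
  have hV16 := card_le_sixteen (CfsgLib.Fusion.RankThree.sectional_quotient S.h4 Φ) hcV h2V
  have hcz : ∀ z ∈ Φ, ∀ y : Y, z * y = y * z := fun z hz y => (mem_center_iff.1 (hcen hz) y).symm
  -- lifts
  have hl : ∀ v : V, ∃ q ∈ Q, (q : Y ⧸ Φ) = v := fun v => mem_map.1 v.2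
  choose l hlQ hlv using hl
  let σ : V → Φ := fun v => ⟨l v * l v, S.sq _ (hlQ v)⟩
  have hσ : ∀ (v : V) (q : Y), (q : Y ⧸ Φ) = v → (σ v : Y) = q * q := by
    intro v q hq
    have hz : (l v)⁻¹ * q ∈ Φ := QuotientGroup.eq.1 ((hlv v).trans hq.symm)
    set z := (l v)⁻¹ * q with hzd
    rw [show q = l v * z by rw [hzd]; group, mul_assoc, ← mul_assoc z, hcz z hz, mul_assoc (l v) z z,
      hΦ2 z hz, mul_one]
  have hinv : ∀ g v, σ (ρ g v) = σ v := by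
    intro g v
    obtain ⟨y, rfl⟩ := hs' g
    obtain ⟨y, rfl⟩ := QuotientGroup.mk_surjective y
    refine Subtype.ext ?_
    rw [hσ _ (y * l v * y⁻¹) (by
      rw [happ, QuotientGroup.mk_mul, QuotientGroup.mk_mul, hlv, QuotientGroup.mk_inv]),
      show y * l v * y⁻¹ * (y * l v * y⁻¹) = y * (l v * l v) * y⁻¹ by group,
      ← hcz _ (S.sq _ (hlQ v)) y, mul_inv_cancel_right]
  have hk : ∀ x ∈ Q, ∀ y ∈ Q, x * y * (x * y) * (x * x) * (y * y) = y * x * y⁻¹ * x⁻¹ := by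
    intro x hx y hy
    set k := y * x * y⁻¹ * x⁻¹ with hkd
    have hkΦ : k ∈ Φ := comm_mem_of_sq S.sq hy hx
    have e : x * y * (x * y) = k * (x * x) * (y * y) := by
      rw [hcz k hkΦ, mul_assoc (x * x), hcz k hkΦ, show x * x * (y * y * k) = x * (x * (y * y) * k) by group,
        ← hcz k hkΦ, hkd]
      group
    rw [e, mul_assoc k, mul_assoc k, hcz (x * x) (S.sq x hx) (y * y), mul_assoc k,
      show y * y * (x * x) * (x * x) * (y * y) = y * y * ((x * x) * (x * x)) * (y * y) by group,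
      hΦ2 _ (S.sq x hx), mul_one, hΦ2 _ (S.sq y hy), mul_one]
  have hbil : ∀ a b c : V, σ (a * b * c) * σ (a * b) * σ c =
      (σ (a * c) * σ a * σ c) * (σ (b * c) * σ b * σ c) := by
    intro a b c
    have hmul : ∀ p q : V, ((l p * l q : Y) : Y ⧸ Φ) = ((p * q : V) : Y ⧸ Φ) := fun p q => by
      rw [QuotientGroup.mk_mul, hlv, hlv, coe_mul]
    refine Subtype.ext ?_
    simp only [coe_mul]
    rw [hσ _ (l a * l b * l c) (by rw [QuotientGroup.mk_mul, hmul, hlv]; rfl), hσ _ _ (hmul a b),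
      hσ _ _ (hmul a c), hσ _ _ (hmul b c), hσ _ _ (hlv a), hσ _ _ (hlv b), hσ _ _ (hlv c),
      hk _ (mul_mem (hlQ a) (hlQ b)) _ (hlQ c), hk _ (hlQ a) _ (hlQ c), hk _ (hlQ b) _ (hlQ c)]
    set k := l c * l b * (l c)⁻¹ * (l b)⁻¹ with hkd
    have hkΦ : k ∈ Φ := comm_mem_of_sq S.sq (hlQ c) (hlQ b)
    calc l c * (l a * l b) * (l c)⁻¹ * (l a * l b)⁻¹ = (l c * l a * (l c)⁻¹) * (k * (l a)⁻¹) := by
          rw [hkd]; group
      _ = l c * l a * (l c)⁻¹ * (l a)⁻¹ * k := by rw [hcz k hkΦ, ← mul_assoc]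
  have h2 : ∀ v : V, v * v = 1 := fun v => Subtype.ext (h2V v v.2)
  rcases exists_frame h2 hV16 ρ (hinj S.not_central) (fun x : Φ => Subtype.ext (hΦ2 x x.2)) σ hinv hbil with
    h | ⟨o, w, hprod, htop, hone, hpair, hval⟩
  · left
    intro q hq
    rw [← hσ ⟨(q : Y ⧸ Φ), mem_map_of_mem _ hq⟩ q rfl, h]; rfl
  by_cases hw : w = 1
  · left
    intro q hq
    rw [← hσ ⟨(q : Y ⧸ Φ), mem_map_of_mem _ hq⟩ q rfl]
    rcases hval ⟨(q : Y ⧸ Φ), mem_map_of_mem _ hq⟩ with h | h <;> rw [h]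
    · rfl
    · rw [hw]; rfl
  right
  have hmk : ∀ p q : V, ((l p * l q : Y) : Y ⧸ Φ) = ((p * q : V) : Y ⧸ Φ) := fun p q => by
    rw [QuotientGroup.mk_mul, hlv, hlv, coe_mul]
  refine ⟨fun i => l (o i), w, w.2, fun e => hw (Subtype.ext e), fun i => hlQ _,
    fun i => by rw [← hσ _ _ (hlv (o i)), hone]; rfl, fun i j hij => by
      rw [← hσ _ _ (hmk (o i) (o j)), hpair i j hij],
    (QuotientGroup.eq_one_iff _).1 ?_, fun q hq => ?_, fun q hq => ?_⟩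
  · have := congrArg Subtype.val hprod
    simp only [coe_mul, coe_one] at this
    simp only [QuotientGroup.mk_mul, hlv]
    exact this
  · rw [← hσ ⟨(q : Y ⧸ Φ), mem_map_of_mem _ hq⟩ q rfl]
    rcases hval ⟨(q : Y ⧸ Φ), mem_map_of_mem _ hq⟩ with h | h <;> rw [h]
    · exact Or.inl rfl
    · exact Or.inr rfl
  · rcases exists_span h2 o hprod htop ⟨(q : Y ⧸ Φ), mem_map_of_mem _ hq⟩ with h | ⟨i, h⟩ | ⟨i, j, hij, h⟩
    · exact Or.inl ((QuotientGroup.eq_one_iff q).1 (congrArg Subtype.val h))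
    · exact Or.inr (Or.inl ⟨i, QuotientGroup.eq.1 ((congrArg Subtype.val h).trans (hlv _).symm)⟩)
    · exact Or.inr (Or.inr ⟨i, j, hij, QuotientGroup.eq.1 ((congrArg Subtype.val h).trans (hmk _ _).symm)⟩)

end CfsgLib.PGroup.RadicalFive
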